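import Mathlib

/-!
Elementary lemmas on trivial intersection subgroups of p-groups.
-/

set_option autoImplicit false

namespace Cfsg.Agent.TI

open scoped Pointwise

variable {G : Type*} [Group G]

theorem comm_eq_bot_of_normalize {A B : Subgroup G} (hAB : A ⊓ B = ⊥)
    (hBA : B ≤ Subgroup.normalizer (A : Set G)) (hA : A ≤ Subgroup.normalizer (B : Set G)) :
    ⁅A, B⁆ = ⊥ := by
  rw [eq_bot_iff, ← hAB]
  exact le_inf (Subgroup.le_normalizer_iff_commutator_le_left.1 hBA)
    (Subgroup.le_normalizer_iff_commutator_le_right.1 hA)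

theorem card_mul_card_le_of_inf_eq_bot [Finite G] {A B K : Subgroup G} (h : A ⊓ B = ⊥) (hA : A ≤ K) (hB : B ≤ K) :
    Nat.card A * Nat.card B ≤ Nat.card K := by
  rw [← Nat.card_prod]
  exact Nat.card_le_card_of_injective
    (fun x : A × B => (⟨x.1 * x.2, mul_mem (hA x.1.2) (hB x.2.2)⟩ : K))
    (fun x y hxy => Subgroup.mul_injective_of_disjoint (disjoint_iff.2 h) (congrArg Subtype.val hxy))

theorem card_sup_le_of_le_normalizer [Finite G] {A B : Subgroup G} (h : A ≤ Subgroup.normalizer (B : Set G)) :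
    Nat.card ↥(A ⊔ B) ≤ Nat.card A * Nat.card B := by
  rw [← Nat.card_prod]
  refine Nat.card_le_card_of_surjective
    (fun x : A × B => (⟨(x.1 : G) * x.2, mul_mem (Subgroup.mem_sup_left x.1.2) (Subgroup.mem_sup_right x.2.2)⟩ :
      ↥(A ⊔ B))) ?_
  rintro ⟨y, hy⟩
  have hy' : y ∈ (↑(A ⊔ B) : Set G) := hy
  rw [Subgroup.coe_mul_of_left_le_normalizer_right A B h] at hy'
  obtain ⟨a, ha, b, hb, rfl⟩ := hy'
  exact ⟨(⟨a, ha⟩, ⟨b, hb⟩), rfl⟩

/-- If the p-subgroup `B` normalizes the p-subgroup `A`, meets it trivially, is not smaller, and meets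
each of its `A`-conjugates trivially or entirely, then `A` and `B` commute elementwise. -/
theorem comm_eq_bot_of_ti [Finite G] {p : ℕ} [Fact p.Prime] {A B : Subgroup G}
    (hA : IsPGroup p ↥A) (hB : IsPGroup p ↥B)
    (hBti : ∀ a ∈ A, B.map (MulAut.conj a).toMonoidHom = B ∨ B.map (MulAut.conj a).toMonoidHom ⊓ B = ⊥)
    (hle : Nat.card ↥A ≤ Nat.card ↥B) (hAB : A ⊓ B = ⊥) (hN : B ≤ Subgroup.normalizer (A : Set G)) :
    ⁅A, B⁆ = ⊥ := by
  refine comm_eq_bot_of_normalize hAB hN ?_
  set A0 := A ⊓ Subgroup.normalizer (B : Set G) with hA0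
  by_contra hcon
  have hlt : Nat.card A0 < Nat.card A := by
    refine lt_of_le_of_ne (Subgroup.card_le_of_le inf_le_left) fun h => hcon ?_
    exact inf_eq_left.1 (Subgroup.eq_of_le_of_card_ge inf_le_left h.ge)
  set P := A ⊔ B with hP
  set K := A0 ⊔ B with hK
  have hKP : K ≤ P := sup_le_sup_right inf_le_left B
  have hPcoe : (P : Set G) = A * B := Subgroup.coe_mul_of_right_le_normalizer_left A B hN
  have hKsmall : Nat.card K ≤ Nat.card A0 * Nat.card B := card_sup_le_of_le_normalizer inf_le_right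
  have hPbig : Nat.card A * Nat.card B ≤ Nat.card P := card_mul_card_le_of_inf_eq_bot hAB le_sup_left le_sup_right
  have hne : K.subgroupOf P ≠ ⊤ := by
    intro h
    have : P = K := le_antisymm (Subgroup.subgroupOf_eq_top.1 h) hKP
    have h0 : 0 < Nat.card B := Nat.card_pos
    have h1 : Nat.card A0 * Nat.card B < Nat.card A * Nat.card B := Nat.mul_lt_mul_of_pos_right hlt h0
    rw [this] at hPbig
    omega
  have hPp : IsPGroup p ↥P := hA.to_sup_of_normal_left' hB hN
  have hnil : Group.IsNilpotent ↥P := hPp.isNilpotent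
  obtain ⟨x, hxN, hxK⟩ := SetLike.exists_of_lt
    ((Group.normalizerCondition_of_isNilpotent (G := ↥P)) _ (lt_top_iff_ne_top.2 hne))
  obtain ⟨a, ha, b, hb, hab⟩ : (x : G) ∈ (A : Set G) * (B : Set G) := hPcoe ▸ x.2
  have hxN' : ∀ k ∈ K, (x : G) * k * (x : G)⁻¹ ∈ K := by
    intro k hk
    have := (Subgroup.mem_normalizer_iff.1 hxN ⟨k, hKP hk⟩).1 (Subgroup.mem_subgroupOf.2 hk)
    simpa [Subgroup.mem_subgroupOf] using this
  have haK : ∀ k ∈ K, a * k * a⁻¹ ∈ K := by
    intro k hk
    have hb' : b ∈ K := Subgroup.mem_sup_right hb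
    have h2 := hxN' (b⁻¹ * k * b) (mul_mem (mul_mem (inv_mem hb') hk) hb')
    rw [← hab] at h2
    have e : a * b * (b⁻¹ * k * b) * (a * b)⁻¹ = a * k * a⁻¹ := by group
    rwa [e] at h2
  have hanotN : a ∉ Subgroup.normalizer (B : Set G) := by
    intro h
    apply hxK
    rw [Subgroup.mem_subgroupOf, ← hab]
    exact mul_mem (Subgroup.mem_sup_left ⟨ha, h⟩) (Subgroup.mem_sup_right hb)
  have hBa : B.map (MulAut.conj a).toMonoidHom ⊓ B = ⊥ := by
    refine (hBti a ha).resolve_left fun h => hanotN ?_
    rw [Subgroup.mem_normalizer_iff_map_conj_eq]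
    exact h
  have hBK : B.map (MulAut.conj a).toMonoidHom ≤ K := by
    rintro _ ⟨c, hc, rfl⟩
    exact haK c (Subgroup.mem_sup_right hc)
  have hbig := card_mul_card_le_of_inf_eq_bot hBa hBK le_sup_right
  have hcard : Nat.card ↥(B.map (MulAut.conj a).toMonoidHom) = Nat.card B :=
    Nat.card_congr (Subgroup.equivMapOfInjective _ _ (MulAut.conj a).injective).symm.toEquiv
  rw [hcard] at hbig
  have := Nat.le_of_mul_le_mul_right (hbig.trans hKsmall) Nat.card_pos
  omega

/-- Key step: if `f ∘ f` and `f` have the same fixed points on an abelian 2-group and `f` is an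
automorphism of 2-power order, then `f` is trivial. -/
theorem mulAut_eq_one_of_fix_sq {A : Type*} [CommGroup A] [Finite A] (hA : IsPGroup 2 A) (t : MulAut A)
    (ht : ∃ k : ℕ, orderOf t = 2 ^ k) (hC : ∀ a : A, t (t a) = a → t a = a) : ∀ a : A, t a = a := by
  obtain ⟨k, hk⟩ := ht
  have key : ∀ j : ℕ, ∀ x : A, x ^ 2 = 1 → (t ^ (2 ^ j)) x = x → t x = x := by
    intro j
    induction j with
    | zero => intro x _ h; simpa using h
    | succ j ih =>
      intro x hx h
      set u := t ^ (2 ^ j) with hu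
      have huu : u (u x) = x := by
        rw [← MulAut.mul_apply, hu, ← pow_add, ← two_mul, ← pow_succ']
        exact h
      have hd2 : (u x * x⁻¹) ^ 2 = 1 := by
        rw [mul_pow, inv_pow, hx, ← map_pow, hx, map_one, inv_one, one_mul]
      have hinv : ∀ y : A, y ^ 2 = 1 → y⁻¹ = y := fun y hy => inv_eq_of_mul_eq_one_right (by rwa [← sq])
      have hfixd : u (u x * x⁻¹) = u x * x⁻¹ := by
        rw [map_mul, huu, map_inv]
        have hux : (u x) ^ 2 = 1 := by rw [← map_pow, hx, map_one]
        rw [hinv _ hux, hinv _ hx, mul_comm]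
      have h1 : t (u x * x⁻¹) = u x * x⁻¹ := ih _ hd2 hfixd
      rcases Nat.eq_zero_or_pos j with rfl | hj
      · exact hC x (by simpa [pow_succ, pow_two] using h)
      · set w := t ^ (2 ^ (j - 1)) with hw
        have hwu : ∀ y, w (w y) = u y := by
          intro y
          rw [← MulAut.mul_apply, hw, hu, ← pow_add, ← two_mul, ← pow_succ', Nat.sub_add_cancel hj]
        have hwfix : ∀ y, t y = y → w y = y := by
          intro y hy
          have : ∀ n : ℕ, (t ^ n) y = y := by
            intro n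
            induction n with
            | zero => simp
            | succ n ihn => rw [pow_succ, MulAut.mul_apply, hy, ihn]
          exact this _
        have hd1 := hwfix _ h1
        set e := w x * x⁻¹ with he
        have he2 : e ^ 2 = 1 := by
          rw [he, mul_pow, inv_pow, hx, ← map_pow, hx, map_one, inv_one, one_mul]
        have hwx : (w x) ^ 2 = 1 := by rw [← map_pow, hx, map_one]
        have hee : w e * e⁻¹ = u x * x⁻¹ := by
          rw [he, map_mul, hwu, map_inv, mul_inv, inv_inv, hinv _ hwx, hinv _ hx]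
          rw [show u x * w x * (w x * x) = u x * ((w x) ^ 2) * x by rw [sq]; simp only [mul_assoc], hwx, mul_one]
        have hue : u e = e := by
          set f := u x * x⁻¹ with hf
          have hwe : w e = f * e := by rw [← hee]; group
          have hf2 : f * f = 1 := by rw [← sq]; exact hd2
          rw [← hwu, hwe, map_mul, hd1, hwe, ← mul_assoc, hf2, one_mul]
        have hte := ih e he2 hue
        have hwe' : w e = e := hwfix _ hte
        have : u x * x⁻¹ = 1 := by rw [← hee, hwe', mul_inv_cancel]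
        exact ih x hx (mul_inv_eq_one.1 this)
  have hlow : ∀ x : A, x ^ 2 = 1 → t x = x := by
    intro x hx
    refine key k x hx ?_
    rw [← hk, pow_orderOf_eq_one]
    rfl
  intro a
  obtain ⟨m, hm⟩ := hA a
  induction m generalizing a with
  | zero => simp only [pow_zero, pow_one] at hm; subst hm; simp
  | succ m ih =>
    have h2 : t (a ^ 2) = a ^ 2 := ih (a ^ 2) (by rw [← pow_mul, ← pow_succ']; exact hm)
    set d := t a * a⁻¹ with hd
    have hd2 : d ^ 2 = 1 := by
      rw [hd, mul_pow, inv_pow, ← map_pow, h2, mul_inv_cancel]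
    have htd : t d = d := hlow d hd2
    apply hC
    have : t a = d * a := by rw [hd]; group
    rw [this, map_mul, htd, this, ← mul_assoc, ← sq, hd2, one_mul]


namespace Conj

variable {G : Type*} [Group G]

theorem map_conj_conj (H : Subgroup G) (x y : G) :
    (H.map (MulAut.conj y).toMonoidHom).map (MulAut.conj x).toMonoidHom = H.map (MulAut.conj (x * y)).toMonoidHom := by
  rw [Subgroup.map_map]
  congr 1
  ext h
  simp [mul_assoc]

theorem map_conj_one (H : Subgroup G) : H.map (MulAut.conj (1 : G)).toMonoidHom = H := by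
  ext h; simp

theorem card_map_conj (H : Subgroup G) (x : G) : Nat.card ↥(H.map (MulAut.conj x).toMonoidHom) = Nat.card H :=
  Nat.card_congr (Subgroup.equivMapOfInjective _ _ (MulAut.conj x).injective).symm.toEquiv

/-- The TI property passes to conjugates. -/
theorem ti_map_conj {H : Subgroup G}
    (hti : ∀ h : G, H.map (MulAut.conj h).toMonoidHom = H ∨ H.map (MulAut.conj h).toMonoidHom ⊓ H = ⊥) (g x : G) :
    (H.map (MulAut.conj g).toMonoidHom).map (MulAut.conj x).toMonoidHom = H.map (MulAut.conj g).toMonoidHom ∨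
      (H.map (MulAut.conj g).toMonoidHom).map (MulAut.conj x).toMonoidHom ⊓ H.map (MulAut.conj g).toMonoidHom = ⊥ := by
  rw [map_conj_conj]
  have e : H.map (MulAut.conj (x * g)).toMonoidHom =
      (H.map (MulAut.conj (g⁻¹ * (x * g))).toMonoidHom).map (MulAut.conj g).toMonoidHom := by
    rw [map_conj_conj, mul_inv_cancel_left]
  rcases hti (g⁻¹ * (x * g)) with h | h
  · left; rw [e, h]
  · right; rw [e, ← Subgroup.map_inf_eq _ _ _ (MulAut.conj g).injective, h, Subgroup.map_bot]

end Conj

end Cfsg.Agent.TI
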