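import Cfsg.Agent.Lib.Solvable.Coprime
import Cfsg.Agent.Lib.Transfer.Fusion
import Cfsg.Agent.Lib.CharP.AxB
import Cfsg.Agent.Lib.Classification.TI

/-!
Thompson's transitivity theorem.

* `le_centralizer_of_fixed`: for an odd prime `p`, a `p'`-group `D` normalized by a `p`-group `A`, both acting
  on a `p`-group `R`, with `C_R(A) ≤ C(D)`, centralizes `R`.
* `le_pPrimeCore_of_invariant`: in a solvable group, if the `p`-group `A` contains every `p`-element which
  centralizes it, every `A`-invariant `p'`-subgroup lies in `O_{p'}`.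
* `transitivity`: the abstract transitivity theorem.
-/

set_option autoImplicit false

namespace Cfsg.Agent.CTransitivity

open scoped commutatorElement Pointwise

variable {G : Type*} [Group G]

/-- Commutativity of the symmetric product of a list in a group of class at most two. -/
theorem symProd_perm {R : Subgroup G} (hR : ∀ a ∈ R, ∀ b ∈ R, ∀ c ∈ R, ⁅a, b⁆ * c = c * ⁅a, b⁆)
    {l₁ l₂ : List G} (hp : l₁.Perm l₂) :
    (∀ a ∈ l₁, a ∈ R) → l₁.prod * l₁.reverse.prod = l₂.prod * l₂.reverse.prod := by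
  induction hp with
  | nil => intro _; rfl
  | @cons a l₁ l₂ h ih =>
    intro hmem
    have h' := ih fun b hb => hmem b (List.mem_cons_of_mem _ hb)
    calc (a :: l₁).prod * (a :: l₁).reverse.prod = a * (l₁.prod * l₁.reverse.prod) * a := by
          simp [mul_assoc]
      _ = _ := by rw [h']; simp [mul_assoc]
  | @swap a b l =>
    intro hmem
    have ha : a ∈ R := hmem a (by simp)
    have hb : b ∈ R := hmem b (by simp)
    have hP : l.prod * l.reverse.prod ∈ R := by
      refine mul_mem (R.list_prod_mem fun x hx => hmem x (by simp [hx])) ?_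
      exact R.list_prod_mem fun x hx => hmem x (by simp [List.mem_reverse.1 hx])
    set P := l.prod * l.reverse.prod with hPdef
    have hab : a * b = ⁅a, b⁆ * (b * a) := by rw [commutatorElement_def]; group
    have hc1 : b * a * ⁅a, b⁆ = ⁅a, b⁆ * (b * a) := (hR a ha b hb (b * a) (mul_mem hb ha)).symm
    have hc2 : P * ⁅a, b⁆ = ⁅a, b⁆ * P := (hR a ha b hb P hP).symm
    calc (b :: a :: l).prod * (b :: a :: l).reverse.prod = b * a * P * (a * b) := by
          simp [hPdef, mul_assoc]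
      _ = b * a * (P * ⁅a, b⁆) * (b * a) := by rw [hab]; simp only [mul_assoc]
      _ = b * a * ⁅a, b⁆ * P * (b * a) := by rw [hc2]; simp only [mul_assoc]
      _ = ⁅a, b⁆ * (b * a) * P * (b * a) := by rw [hc1]
      _ = a * b * P * (b * a) := by rw [← hab]
      _ = _ := by simp [hPdef, mul_assoc]
  | trans h₁ _ ih₁ ih₂ =>
    intro hmem
    exact (ih₁ hmem).trans (ih₂ fun a ha => hmem a (h₁.mem_iff.2 ha))

theorem prod_map_mul_central {R : Subgroup G} {z : G} (hz : ∀ c ∈ R, c * z = z * c) {l : List G}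
    (hl : ∀ a ∈ l, a ∈ R) : (l.map (· * z)).prod = l.prod * z ^ l.length := by
  induction l with
  | nil => simp
  | cons a l ih =>
    have hP : l.prod ∈ R := R.list_prod_mem fun x hx => hl x (List.mem_cons_of_mem _ hx)
    rw [List.map_cons, List.prod_cons, ih fun b hb => hl b (List.mem_cons_of_mem _ hb),
      List.prod_cons, List.length_cons, pow_succ', mul_assoc a z, ← mul_assoc z, ← hz _ hP]
    simp [mul_assoc]

variable [Finite G] {p : ℕ} [hp : Fact p.Prime]

open Classical in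
/-- The conjugates of `x` under `D`. -/
noncomputable def orbitList (D : Subgroup G) (x : G) : List G :=
  letI := Fintype.ofFinite D
  (Finset.univ : Finset D).toList.map fun d : D => (d : G) * x * (d : G)⁻¹

/-- The symmetrised product of the conjugates of `x` under `D`. -/
noncomputable def symProd (D : Subgroup G) (x : G) : G :=
  (orbitList D x).prod * (orbitList D x).reverse.prod

theorem orbitList_perm (D : Subgroup G) (x : G) (e : D ≃ D) :
    letI := Fintype.ofFinite D
    (((Finset.univ : Finset D).toList.map e).map fun d : D => (d : G) * x * (d : G)⁻¹).Perm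
      (orbitList D x) := by
  letI := Fintype.ofFinite D
  refine List.Perm.map _ ?_
  rw [List.perm_ext_iff_of_nodup ((Finset.nodup_toList _).map e.injective) (Finset.nodup_toList _)]
  intro d
  simp only [Finset.mem_toList, Finset.mem_univ, iff_true, List.mem_map]
  exact ⟨e.symm d, by simp, by simp⟩

theorem mem_orbitList {D R : Subgroup G} (hDR : D ≤ Subgroup.normalizer (R : Set G)) {x : G}
    (hx : x ∈ R) : ∀ a ∈ orbitList D x, a ∈ R := by
  intro a ha
  simp only [orbitList, List.mem_map] at ha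
  obtain ⟨d, -, rfl⟩ := ha
  exact (Subgroup.mem_normalizer_iff.1 (hDR d.2) x).1 hx

theorem conj_symProd {D R : Subgroup G}
    (hR : ∀ a ∈ R, ∀ b ∈ R, ∀ c ∈ R, ⁅a, b⁆ * c = c * ⁅a, b⁆)
    (hDR : D ≤ Subgroup.normalizer (R : Set G)) {g : G} (hgD : g ∈ Subgroup.normalizer (D : Set G))
    (hgR : g ∈ Subgroup.normalizer (R : Set G)) {x : G} (hx : x ∈ R) :
    g * symProd D x * g⁻¹ = symProd D (g * x * g⁻¹) := by
  let := Fintype.ofFinite D
  let e : D ≃ D :=
    { toFun := fun d => ⟨g * d * g⁻¹, (Subgroup.mem_normalizer_iff.1 hgD d).1 d.2⟩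
      invFun := fun d => ⟨g⁻¹ * d * g, (Subgroup.mem_normalizer_iff''.1 hgD d).1 d.2⟩
      left_inv := fun d => Subtype.ext (by simp [mul_assoc])
      right_inv := fun d => Subtype.ext (by simp [mul_assoc]) }
  have hmap : (orbitList D x).map (MulAut.conj g) =
      ((Finset.univ : Finset D).toList.map e).map fun d : D => (d : G) * (g * x * g⁻¹) * (d : G)⁻¹ := by
    simp only [orbitList, List.map_map]
    refine List.map_congr_left fun d _ => ?_
    simp [e, mul_assoc]
  have hgx : g * x * g⁻¹ ∈ R := (Subgroup.mem_normalizer_iff.1 hgR x).1 hx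
  have hperm := orbitList_perm D (g * x * g⁻¹) e
  rw [← hmap] at hperm
  calc g * symProd D x * g⁻¹ = MulAut.conj g (symProd D x) := (MulAut.conj_apply _ _).symm
    _ = ((orbitList D x).map (MulAut.conj g)).prod * ((orbitList D x).map (MulAut.conj g)).reverse.prod := by
        rw [symProd, map_mul, map_list_prod, map_list_prod, List.map_reverse]
    _ = _ := symProd_perm hR hperm fun a ha => by
        obtain ⟨b, hb, rfl⟩ := List.mem_map.1 ha
        exact (Subgroup.mem_normalizer_iff.1 hgR b).1 (mem_orbitList hDR hx b hb)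

/-- If `D` is a `p'`-group normalized by the `p`-group `A`, both act on the `p`-group `R`, `p` odd, and
`C_R(A) ≤ C(D)`, then `D` centralizes `R`. -/
theorem le_centralizer_of_fixed (hp2 : p ≠ 2) {D A : Subgroup G} (hA : IsPGroup p A)
    (hD : (Nat.card D).Coprime p) (hAD : A ≤ Subgroup.normalizer (D : Set G)) :
    ∀ R : Subgroup G, IsPGroup p R → D ≤ Subgroup.normalizer (R : Set G) →
      A ≤ Subgroup.normalizer (R : Set G) →
      R ⊓ Subgroup.centralizer (A : Set G) ≤ Subgroup.centralizer (D : Set G) →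
      R ≤ Subgroup.centralizer (D : Set G) := by
  intro R
  induction hn : Nat.card R using Nat.strong_induction_on generalizing R with
  | _ n ih =>
  intro hR hDR hAR hfix
  subst hn
  by_contra hne
  have hsmall : ∀ S : Subgroup G, S < R → D ≤ Subgroup.normalizer (S : Set G) →
      A ≤ Subgroup.normalizer (S : Set G) → S ≤ Subgroup.centralizer (D : Set G) := fun S hS h1 h2 =>
    ih _ (lt_of_le_of_ne (Subgroup.card_le_of_le hS.le) fun h => hS.ne (Subgroup.eq_of_le_of_card_ge hS.le h.ge))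
      S rfl (hR.to_le hS.le) h1 h2 ((inf_le_inf_right _ hS.le).trans hfix)
  set M : Subgroup G := R ⊓ Subgroup.centralizer (D : Set G) with hM
  have hfixM : ∀ m ∈ M, ∀ d ∈ D, d * m * d⁻¹ = m := fun m hm d hd => by
    rw [Subgroup.mem_centralizer_iff.1 hm.2 d hd, mul_inv_cancel_right]
  -- the subgroup generated by the [x, D] is everything
  set T : Subgroup G := Subgroup.closure {c | ∃ x ∈ R, ∃ d ∈ D, c = x⁻¹ * (d * x * d⁻¹)} with hT
  have hTR : T ≤ R := by
    rw [hT, Subgroup.closure_le]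
    rintro _ ⟨x, hx, d, hd, rfl⟩
    exact mul_mem (inv_mem hx) ((Subgroup.mem_normalizer_iff.1 (hDR hd) x).1 hx)
  have hTn : ∀ g, g ∈ Subgroup.normalizer (R : Set G) → g ∈ Subgroup.normalizer (D : Set G) →
      g ∈ Subgroup.normalizer (T : Set G) := by
    intro g hgR hgD
    have hmap : T.map (MulAut.conj g).toMonoidHom ≤ T := by
      rw [hT, MonoidHom.map_closure, Subgroup.closure_le]
      rintro _ ⟨_, ⟨x, hx, d, hd, rfl⟩, rfl⟩
      refine Subgroup.subset_closure ⟨g * x * g⁻¹, (Subgroup.mem_normalizer_iff.1 hgR x).1 hx,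
        g * d * g⁻¹, (Subgroup.mem_normalizer_iff.1 hgD d).1 hd, ?_⟩
      simp [mul_assoc]
    rw [Subgroup.mem_normalizer_iff_map_conj_eq]
    exact Subgroup.eq_of_le_of_card_ge hmap
      (by rw [Subgroup.card_map_of_injective (MulAut.conj g).injective])
  have hTeq : T = R := by
    by_contra hTne
    have hTC := hsmall T (lt_of_le_of_ne hTR hTne) (fun d hd => hTn d (hDR hd) (Subgroup.le_normalizer hd))
      (fun a ha => hTn a (hAR ha) (hAD ha))
    refine hne fun x hx => Subgroup.mem_centralizer_iff.2 fun d hd => ?_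
    set c : G := x⁻¹ * (d * x * d⁻¹) with hc
    have hcT : c ∈ T := Subgroup.subset_closure ⟨x, hx, d, hd, rfl⟩
    obtain ⟨k, hk⟩ := IsPGroup.iff_orderOf.1 hR ⟨c, hTR hcT⟩
    rw [Subgroup.orderOf_mk] at hk
    have h := AxB.fixed_of_conj_eq_mul (q := x) (x := d) (d := c) (n := orderOf d)
      (Subgroup.mem_centralizer_iff.1 (hTC hcT) d hd) (by rw [hc, mul_inv_cancel_left])
      (pow_orderOf_eq_one d) ?_
    · exact mul_inv_eq_iff_eq_mul.1 (inv_mul_eq_one.1 h).symm
    · rw [hk]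
      exact Nat.Coprime.pow_left k
        (Nat.Coprime.coprime_dvd_left (Subgroup.orderOf_dvd_natCard D hd) hD).symm
  -- M is central and contains the commutators
  have hR1 : R ≠ ⊥ := fun h => hne (h ▸ bot_le)
  have hcomm : ⁅R, R⁆ ≤ M := by
    refine le_inf (Subgroup.commutator_le_self R) ?_
    have hn : ∀ g, g ∈ Subgroup.normalizer (R : Set G) → g ∈ Subgroup.normalizer (⁅R, R⁆ : Subgroup G) := by
      intro g hg
      rw [Subgroup.mem_normalizer_iff_map_conj_eq] at hg ⊢
      rw [Subgroup.map_commutator, hg]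
    refine hsmall _ (lt_of_le_of_ne (Subgroup.commutator_le_self R) fun h => ?_) (fun d hd => hn d (hDR hd))
      fun a ha => hn a (hAR ha)
    haveI : Group.IsNilpotent R := hR.isNilpotent
    haveI : Nontrivial R := (Subgroup.nontrivial_iff_ne_bot R).2 hR1
    have hlt := Group.IsSolvable.commutator_lt_top_of_nontrivial (G := R)
    refine hlt.ne (Subgroup.map_injective R.subtype_injective ?_)
    rw [Subgroup.map_subtype_commutator, h, ← MonoidHom.range_eq_map, Subgroup.range_subtype]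
  have hMn : ∀ r ∈ R, ∀ m ∈ M, r * m * r⁻¹ ∈ M := fun r hr m hm => by
    have : r * m * r⁻¹ = ⁅r, m⁆ * m := by rw [commutatorElement_def]; group
    rw [this]
    exact mul_mem (hcomm (Subgroup.commutator_mem_commutator hr hm.1)) hm
  have hMz : ∀ m ∈ M, ∀ r ∈ R, r * m = m * r := by
    intro m hm r hr
    rw [← hTeq, hT] at hr
    induction hr using Subgroup.closure_induction with
    | mem c hc =>
      obtain ⟨x, hx, d, hd, rfl⟩ := hc
      have h1 := hfixM _ (hMn x hx m hm) d hd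
      have h2 : d⁻¹ * m * d = m := by
        have := hfixM m hm d⁻¹ (inv_mem hd)
        rwa [inv_inv] at this
      have h3 : x⁻¹ * (d * x * d⁻¹) * m * (x⁻¹ * (d * x * d⁻¹))⁻¹ = m := by
        calc _ = x⁻¹ * (d * (x * (d⁻¹ * m * d) * x⁻¹) * d⁻¹) * x := by group
          _ = _ := by rw [h2, h1]; group
      exact mul_inv_eq_iff_eq_mul.1 h3
    | one => simp
    | mul a b _ _ ha hb => rw [mul_assoc, hb, ← mul_assoc, ha, mul_assoc]
    | inv a _ ha => exact ((show Commute a m from ha).inv_left).eq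
  have hcent : ∀ a ∈ R, ∀ b ∈ R, ∀ c ∈ R, ⁅a, b⁆ * c = c * ⁅a, b⁆ := fun a ha b hb c hc =>
    (hMz _ (hcomm (Subgroup.commutator_mem_commutator ha hb)) c hc).symm
  -- a coset fixed by A
  have hMR : M < R := lt_of_le_of_ne inf_le_left fun h => hne (h ▸ inf_le_right)
  have hMA : A ≤ Subgroup.normalizer (M : Set G) := fun a ha => by
    have h1 : a ∈ Subgroup.normalizer (Subgroup.centralizer (D : Set G) : Set G) := by
      rw [Subgroup.mem_normalizer_iff]
      intro y
      simp only [Subgroup.mem_centralizer_iff]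
      constructor
      · intro hy d hd
        have hd' := (Subgroup.mem_normalizer_iff''.1 (hAD ha) d).1 hd
        have h := hy _ hd'
        calc d * (a * y * a⁻¹) = a * ((a⁻¹ * d * a) * y) * a⁻¹ := by group
          _ = a * (y * (a⁻¹ * d * a)) * a⁻¹ := by rw [h]
          _ = _ := by group
      · intro hy d hd
        have hd' := (Subgroup.mem_normalizer_iff.1 (hAD ha) d).1 hd
        have h := hy _ hd'
        calc d * y = a⁻¹ * ((a * d * a⁻¹) * (a * y * a⁻¹)) * a := by group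
          _ = a⁻¹ * ((a * y * a⁻¹) * (a * d * a⁻¹)) * a := by rw [h]
          _ = _ := by group
    exact Subgroup.inf_normalizer_le_normalizer_inf ⟨hAR ha, h1⟩
  set P : Subgroup G := R ⊔ A with hP
  have hPp : IsPGroup p P := hR.to_sup_of_normal_left' hA hAR
  have hRM : R ≤ Subgroup.normalizer (M : Set G) := fun r hr => by
    rw [Subgroup.mem_normalizer_iff]
    intro y
    refine ⟨hMn r hr y, fun hy => ?_⟩
    have := hMn r⁻¹ (inv_mem hr) _ hy
    simpa [mul_assoc] using this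
  obtain ⟨X, -, hXmin⟩ := Finite.exists_le_minimal (a := R)
    (p := fun X : Subgroup G => M < X ∧ X ≤ R ∧ A ≤ Subgroup.normalizer (X : Set G))
    ⟨hMR, le_rfl, hAR⟩
  obtain ⟨⟨hMX, hXR, hXA⟩, hXleast⟩ := hXmin
  have hXP : P ≤ Subgroup.normalizer (X : Set G) := by
    refine sup_le (fun r hr => ?_) hXA
    rw [Subgroup.mem_normalizer_iff]
    intro y
    have key : ∀ r ∈ R, ∀ y ∈ X, r * y * r⁻¹ ∈ X := fun r hr y hy => by
      have : r * y * r⁻¹ = ⁅r, y⁆ * y := by rw [commutatorElement_def]; group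
      rw [this]
      exact mul_mem (hMX.le (hcomm (Subgroup.commutator_mem_commutator hr (hXR hy)))) hy
    refine ⟨key r hr y, fun hy => ?_⟩
    have := key r⁻¹ (inv_mem hr) _ hy
    simpa [mul_assoc] using this
  set Y : Subgroup G := ⁅X, P⁆ ⊔ M with hY
  have hYX : Y ≤ X := sup_le (Subgroup.le_normalizer_iff_commutator_le_left.1 hXP) hMX.le
  have hYA : A ≤ Subgroup.normalizer (Y : Set G) := fun a ha => by
    have h1 := Subgroup.mem_normalizer_iff_map_conj_eq.1 (hXA ha)
    have h2 := Subgroup.mem_normalizer_iff_map_conj_eq.1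
      (Subgroup.le_normalizer (Subgroup.mem_sup_right ha : a ∈ P))
    have h3 := Subgroup.mem_normalizer_iff_map_conj_eq.1 (hMA ha)
    rw [Subgroup.mem_normalizer_iff_map_conj_eq, hY, Subgroup.map_sup, Subgroup.map_commutator, h1, h2, h3]
  have hYM : Y = M := by
    by_contra h
    have hXY : X ≤ Y := hXleast ⟨lt_of_le_of_ne le_sup_right (Ne.symm h), hYX.trans hXR, hYA⟩ hYX
    have hXM : X ≤ M := Fusion.le_of_le_commutator_sup hPp.isNilpotent (hXR.trans le_sup_left)
      (inf_le_left.trans le_sup_left) (sup_le hRM hMA) hXY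
    exact hMX.not_ge hXM
  obtain ⟨x, hxX, hxM⟩ := SetLike.exists_of_lt hMX
  have hxR : x ∈ R := hXR hxX
  have hxA : ∀ a ∈ A, x⁻¹ * (a * x * a⁻¹) ∈ M := fun a ha => by
    have : x⁻¹ * (a * x * a⁻¹) = ⁅x⁻¹, a⁆ := by rw [commutatorElement_def, inv_inv]; group
    rw [this, ← hYM]
    exact Subgroup.mem_sup_left
      (Subgroup.commutator_mem_commutator (inv_mem hxX) (Subgroup.mem_sup_right ha))
  -- normalise the representative
  set L := (orbitList D x).length with hL
  have hLcard : L = Nat.card D := by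
    let := Fintype.ofFinite D
    rw [hL, orbitList, List.length_map, Finset.length_toList, Finset.card_univ, Nat.card_eq_fintype_card]
  have hSmul : ∀ y, y ∈ R → ∀ z, z ∈ M → symProd D (y * z) = symProd D y * z ^ (2 * Nat.card D) := by
    intro y hy z hz
    have hzc : ∀ c ∈ R, c * z = z * c := fun c hc => hMz z hz c hc
    have hlist : orbitList D (y * z) = (orbitList D y).map (· * z) := by
      simp only [orbitList, List.map_map]
      refine List.map_congr_left fun d _ => ?_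
      show (d : G) * (y * z) * (d : G)⁻¹ = (d : G) * y * (d : G)⁻¹ * z
      conv_rhs => rw [← hfixM z hz d d.2]
      group
    have hm := mem_orbitList hDR hy
    have hlen : (orbitList D y).length = Nat.card D := by
      let := Fintype.ofFinite D
      rw [orbitList, List.length_map, Finset.length_toList, Finset.card_univ, Nat.card_eq_fintype_card]
    have hP' : (orbitList D y).reverse.prod ∈ R :=
      R.list_prod_mem fun a ha => hm a (List.mem_reverse.1 ha)
    rw [symProd, hlist, ← List.map_reverse, prod_map_mul_central hzc hm,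
      prod_map_mul_central hzc (fun a ha => hm a (List.mem_reverse.1 ha)), List.length_reverse, hlen,
      two_mul, pow_add, symProd]
    have hcz : z ^ Nat.card D * (orbitList D y).reverse.prod =
        (orbitList D y).reverse.prod * z ^ Nat.card D :=
      ((show Commute (orbitList D y).reverse.prod z from hzc _ hP').pow_right _).eq.symm
    simp only [mul_assoc]
    rw [← mul_assoc (z ^ Nat.card D), hcz, mul_assoc]
  have hSR : ∀ y ∈ R, symProd D y ∈ R := fun y hy => mul_mem
    (R.list_prod_mem (mem_orbitList hDR hy))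
    (R.list_prod_mem fun a ha => mem_orbitList hDR hy a (List.mem_reverse.1 ha))
  have hSM : symProd D x ∈ M := by
    refine ⟨hSR x hxR, Subgroup.mem_centralizer_iff.2 fun d hd => ?_⟩
    have h := conj_symProd hcent hDR (Subgroup.le_normalizer hd) (hDR hd) hxR
    have h2 : symProd D (d * x * d⁻¹) = symProd D x := by
      let := Fintype.ofFinite D
      refine symProd_perm hcent ?_ (mem_orbitList hDR ((Subgroup.mem_normalizer_iff.1 (hDR hd) x).1 hxR))
      have hp' := orbitList_perm D x (Equiv.mulRight (⟨d, hd⟩ : D))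
      refine List.Perm.trans (List.Perm.of_eq ?_) hp'
      simp only [orbitList, List.map_map]
      refine List.map_congr_left fun c _ => ?_
      simp [mul_assoc]
    exact mul_inv_eq_iff_eq_mul.1 (h.trans h2)
  have hcop : (Nat.card M).Coprime (2 * Nat.card D) := by
    obtain ⟨k, hk⟩ := IsPGroup.iff_card.1 (hR.to_le (inf_le_left : M ≤ R))
    rw [hk]
    exact Nat.Coprime.pow_left k (Nat.Coprime.mul_right
      ((Nat.coprime_primes hp.out Nat.prime_two).2 hp2) hD.symm)
  obtain ⟨z, hz⟩ := (powCoprime hcop).surjective ⟨(symProd D x)⁻¹, inv_mem hSM⟩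
  have hz' : ((z : G)) ^ (2 * Nat.card D) = (symProd D x)⁻¹ := congrArg Subtype.val hz
  set y : G := x * (z : G) with hy
  have hyR : y ∈ R := mul_mem hxR z.2.1
  have hSy : symProd D y = 1 := by rw [hy, hSmul x hxR z z.2, hz', mul_inv_cancel]
  have hyM : y ∉ M := fun h => hxM ((mul_mem_cancel_right z.2).1 h)
  refine hyM ⟨hyR, hfix ⟨hyR, Subgroup.mem_centralizer_iff.2 fun a ha => ?_⟩⟩
  set w : G := y⁻¹ * (a * y * a⁻¹) with hw
  have hwM : w ∈ M := by
    have hza : a * (z : G) * a⁻¹ ∈ M := (Subgroup.mem_normalizer_iff.1 (hMA ha) _).1 z.2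
    have : w = (z : G)⁻¹ * (x⁻¹ * (a * x * a⁻¹)) * (a * (z : G) * a⁻¹) := by rw [hw, hy]; group
    rw [this]
    exact mul_mem (mul_mem (inv_mem z.2) (hxA a ha)) hza
  have h1 : symProd D (a * y * a⁻¹) = 1 := by
    rw [← conj_symProd hcent hDR (hAD ha) (hAR ha) hyR, hSy, mul_one, mul_inv_cancel]
  rw [show a * y * a⁻¹ = y * w by rw [hw, mul_inv_cancel_left], hSmul y hyR w hwM, hSy, one_mul] at h1
  have hw1 : (⟨w, hwM⟩ : M) = 1 := by
    apply (powCoprime hcop).injective
    rw [powCoprime_one hcop]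
    exact Subtype.ext h1
  have hw1' : y⁻¹ * (a * y * a⁻¹) = 1 := congrArg Subtype.val hw1
  exact mul_inv_eq_iff_eq_mul.1 (inv_mul_eq_one.1 hw1').symm

/-- In a solvable group, if the `p`-group `A` contains every `p`-element centralizing it, then every
`A`-invariant `p'`-subgroup lies in `O_{p'}`. -/
theorem le_pPrimeCore_of_invariant [Group.IsSolvable G] (hp2 : p ≠ 2) {A D : Subgroup G}
    (hA : IsPGroup p A)
    (hcent : ∀ y ∈ Subgroup.centralizer (A : Set G), (∃ k, orderOf y = p ^ k) → y ∈ A)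
    (hD : (Nat.card D).Coprime p) (hAD : A ≤ Subgroup.normalizer (D : Set G)) :
    D ≤ Cfsg.pPrimeCore p G := by
  haveI hKn : (Cfsg.pPrimeCore p G).Normal := FittingCores.pPrimeCore_normal p
  set f := QuotientGroup.mk' (Cfsg.pPrimeCore p G) with hf
  set R := Cfsg.pCore p (G ⧸ Cfsg.pPrimeCore p G) with hR
  haveI hRn : R.Normal := FittingCores.pCore_normal p
  have hfx : ∀ g : G, f g = 1 ↔ g ∈ Cfsg.pPrimeCore p G := fun g => QuotientGroup.eq_one_iff g
  have hDR : R ≤ Subgroup.centralizer ((D.map f : Subgroup _) : Set _) := by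
    refine le_centralizer_of_fixed hp2 (hA.map f)
      (Nat.Coprime.coprime_dvd_left (D.card_map_dvd f) hD) ?_ R (FittingCores.pCore_isPGroup p)
      Subgroup.le_normalizer_of_normal Subgroup.le_normalizer_of_normal ?_
    · exact (Subgroup.map_mono hAD).trans (Subgroup.le_normalizer_map f)
    rintro q ⟨hqR, hqA⟩
    let S := {y : G // f y = q}
    letI act : MulAction A S :=
      { smul := fun a y => ⟨(a : G) * y * (a : G)⁻¹, by
          rw [map_mul, map_mul, map_inv, y.2, Subgroup.mem_centralizer_iff.1 hqA (f a) ⟨a, a.2, rfl⟩,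
            mul_inv_cancel_right]⟩
        one_smul := fun y => Subtype.ext (by
          show ((1 : A) : G) * (y : G) * ((1 : A) : G)⁻¹ = y
          simp)
        mul_smul := fun a b y => Subtype.ext (by
          show ((a * b : A) : G) * (y : G) * ((a * b : A) : G)⁻¹ =
            (a : G) * ((b : G) * y * (b : G)⁻¹) * (a : G)⁻¹
          simp [mul_assoc]) }
    obtain ⟨y₀, hy₀⟩ := QuotientGroup.mk'_surjective (Cfsg.pPrimeCore p G) q
    have hScard : Nat.card S = Nat.card (Cfsg.pPrimeCore p G) :=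
      Nat.card_congr (Equiv.subtypeEquiv (Equiv.mulLeft y₀⁻¹) fun y => by
        rw [Equiv.coe_mulLeft, ← hfx, map_mul, map_inv, inv_mul_eq_one, eq_comm]
        rw [hf, hy₀])
    obtain ⟨y, hy⟩ := hA.nonempty_fixed_point_of_prime_not_dvd_card S (by
      rw [hScard]
      exact (Nat.Prime.coprime_iff_not_dvd hp.out).1 (FittingCores.pPrimeCore_coprime p).symm)
    have hyC : (y : G) ∈ Subgroup.centralizer (A : Set G) := Subgroup.mem_centralizer_iff.2 fun a ha => by
      have h := congrArg Subtype.val (hy ⟨a, ha⟩)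
      exact mul_inv_eq_iff_eq_mul.1 h
    obtain ⟨u, v, huv, hu, hv, hup, hvc⟩ := PBasic.exists_pPart_mul (p := p) (y : G)
    have huA : u ∈ A := hcent u (Subgroup.zpowers_le.2 hyC hu) hup
    have hvq : f v ∈ R := by
      obtain ⟨k, hk⟩ := Subgroup.mem_zpowers_iff.1 hv
      rw [← hk, map_zpow, y.2]
      exact R.zpow_mem hqR k
    have hv1 : f v = 1 := PBasic.eq_one_of_isPGroup_of_coprime (FittingCores.pCore_isPGroup p) hvq
      (Nat.Coprime.coprime_dvd_left (orderOf_map_dvd f v) hvc)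
    have hqu : q = f u := by rw [← y.2, ← huv, map_mul, hv1, mul_one]
    rw [Subgroup.mem_centralizer_iff]
    rintro _ ⟨d, hd, rfl⟩
    set c : G := d * u * d⁻¹ * u⁻¹ with hc
    have hcD : c ∈ D := by
      have h1 := (Subgroup.mem_normalizer_iff.1 (hAD huA) d⁻¹).1 (inv_mem hd)
      have : c = d * (u * d⁻¹ * u⁻¹) := by rw [hc]; group
      rw [this]
      exact mul_mem hd h1
    have hcR : f c ∈ R := by
      rw [hc, map_mul, map_mul, map_mul, map_inv, map_inv, ← hqu]
      exact mul_mem (hRn.conj_mem q hqR (f d)) (inv_mem hqR)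
    have hc1 : f c = 1 := PBasic.eq_one_of_isPGroup_of_coprime (FittingCores.pCore_isPGroup p) hcR
      (Nat.Coprime.coprime_dvd_left ((orderOf_map_dvd f c).trans (Subgroup.orderOf_dvd_natCard D hcD)) hD)
    rw [hc, map_mul, map_mul, map_mul, map_inv, map_inv, ← hqu, mul_inv_eq_one, mul_inv_eq_iff_eq_mul] at hc1
    exact hc1
  intro d hd
  rw [← hfx]
  have hdR : f d ∈ R := FittingCores.centralizer_pCore_le hp.out
    (FittingCores.pPrimeCore_quotient_eq_bot p _ rfl)
    (Subgroup.mem_centralizer_iff.2 fun r hr =>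
      (Subgroup.mem_centralizer_iff.1 (hDR hr) (f d) ⟨d, hd, rfl⟩).symm)
  exact PBasic.eq_one_of_isPGroup_of_coprime (FittingCores.pCore_isPGroup p) hdR
    (Nat.Coprime.coprime_dvd_left ((orderOf_map_dvd f d).trans (Subgroup.orderOf_dvd_natCard D hd)) hD)

/-- An element outside `⟨e⟩` in an elementary group of order `p ^ 3`: a subgroup of order `p ^ 2` avoiding `e`. -/
theorem exists_hyperplane {E : Subgroup G} [IsMulCommutative E] (hexp : ∀ x ∈ E, x ^ p = 1)
    (hE : p ^ 3 ≤ Nat.card E) {e : G} (he : e ∈ E) (he1 : e ≠ 1) :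
    ∃ F : Subgroup G, F ≤ E ∧ e ∉ F ∧ p ^ 2 ≤ Nat.card F := by
  obtain ⟨F, -, hF⟩ := Finite.exists_le_maximal (a := (⊥ : Subgroup G))
    (p := fun F : Subgroup G => F ≤ E ∧ e ∉ F) ⟨bot_le, fun h => he1 (Subgroup.mem_bot.1 h)⟩
  obtain ⟨⟨hFE, heF⟩, hmax⟩ := hF
  refine ⟨F, hFE, heF, ?_⟩
  have hcomm : ∀ a ∈ E, ∀ b ∈ E, a * b = b * a := fun a ha b hb =>
    congrArg Subtype.val (mul_comm' (⟨a, ha⟩ : E) ⟨b, hb⟩)
  have hcard : ∀ g ∈ E, Nat.card ↥(Subgroup.zpowers g ⊔ F) ≤ p * Nat.card F := fun g hg => by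
    refine (TI.card_sup_le_of_le_normalizer ?_).trans (Nat.mul_le_mul_right _ ?_)
    · refine (Subgroup.zpowers_le.2 ?_).trans (Subgroup.centralizer_le_normalizer (F : Set G))
      exact Subgroup.mem_centralizer_iff.2 fun a ha => hcomm a (hFE ha) g hg
    · rw [Nat.card_zpowers]
      exact orderOf_le_of_pow_eq_one hp.out.pos (hexp g hg)
  have hall : E ≤ Subgroup.zpowers e ⊔ F := by
    intro g hg
    by_cases hgF : g ∈ F
    · exact Subgroup.mem_sup_right hgF
    have heg : e ∈ Subgroup.zpowers g ⊔ F := by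
      by_contra h
      exact hgF (hmax ⟨sup_le (Subgroup.zpowers_le.2 hg) hFE, h⟩ le_sup_right
        (Subgroup.mem_sup_left (Subgroup.mem_zpowers g)))
    have hle : Subgroup.zpowers e ⊔ F ≤ Subgroup.zpowers g ⊔ F :=
      sup_le (Subgroup.zpowers_le.2 heg) le_sup_right
    have hgt : p * Nat.card F ≤ Nat.card ↥(Subgroup.zpowers e ⊔ F) := by
      have hlt : Nat.card F < Nat.card ↥(Subgroup.zpowers e ⊔ F) :=
        lt_of_le_of_ne (Subgroup.card_le_of_le le_sup_right) fun h => heF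
          ((Subgroup.eq_of_le_of_card_ge le_sup_right h.ge).symm ▸
            Subgroup.mem_sup_left (Subgroup.mem_zpowers e))
      have hpe : IsPGroup p E := fun x => ⟨1, Subtype.ext (by simpa using hexp x x.2)⟩
      obtain ⟨i, hi⟩ := IsPGroup.iff_card.1 (hpe.to_le hFE)
      obtain ⟨j, hj⟩ := IsPGroup.iff_card.1
        (hpe.to_le (sup_le (Subgroup.zpowers_le.2 he) hFE : Subgroup.zpowers e ⊔ F ≤ E))
      rw [hi, hj] at hlt ⊢
      rw [← pow_succ']
      exact Nat.pow_le_pow_right hp.out.pos ((Nat.pow_lt_pow_iff_right hp.out.one_lt).1 hlt)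
    have heq := Subgroup.eq_of_le_of_card_ge hle ((hcard g hg).trans hgt)
    exact heq ▸ Subgroup.mem_sup_left (Subgroup.mem_zpowers g)
  have h1 := hE.trans ((Subgroup.card_le_of_le hall).trans (hcard e he))
  rw [pow_succ' p 2] at h1
  exact Nat.le_of_mul_le_mul_left h1 hp.out.pos

theorem not_isCyclic_of_exp {F : Subgroup G} (hexp : ∀ x ∈ F, x ^ p = 1) (hF : p ^ 2 ≤ Nat.card F) :
    ¬ IsCyclic F := by
  intro h
  obtain ⟨g, hg⟩ := h.exists_ofOrder_eq_natCard
  have h1 : orderOf g ≤ p :=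
    orderOf_le_of_pow_eq_one hp.out.pos (Subtype.ext (by simpa using hexp g g.2))
  have h2 : p * 1 < p * p := Nat.mul_lt_mul_of_pos_left hp.out.one_lt hp.out.pos
  rw [sq] at hF
  omega

/-- Thompson's transitivity theorem in abstract form: if `E ≤ A` is elementary abelian of order at least
`p ^ 3` in the abelian `p`-group `A` and, for each `b ∈ E#`, all `A`-invariant `q`-subgroups of `C(b)` lie in
one `A`-invariant `p'`-group, then the maximal `A`-invariant `q`-subgroups are conjugate under `C(A)`. -/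
theorem transitivity {A E : Subgroup G} [hAc : IsMulCommutative A] (hA : IsPGroup p A) (hEA : E ≤ A)
    (hexp : ∀ e ∈ E, e ^ p = 1) (hE : p ^ 3 ≤ Nat.card E) {q : ℕ} [hq : Fact q.Prime] (hqp : q ≠ p)
    (hsig : ∀ b ∈ E, b ≠ 1 → ∃ K : Subgroup G, (Nat.card K).Coprime p ∧
      A ≤ Subgroup.normalizer (K : Set G) ∧
      ∀ U : Subgroup G, IsPGroup q U → A ≤ Subgroup.normalizer (U : Set G) →
        U ≤ Subgroup.centralizer {b} → U ≤ K)
    {Q₁ Q₂ : Subgroup G}
    (h₁ : IsPGroup q Q₁ ∧ A ≤ Subgroup.normalizer (Q₁ : Set G) ∧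
      ∀ R : Subgroup G, IsPGroup q R → A ≤ Subgroup.normalizer (R : Set G) → Q₁ ≤ R → R = Q₁)
    (h₂ : IsPGroup q Q₂ ∧ A ≤ Subgroup.normalizer (Q₂ : Set G) ∧
      ∀ R : Subgroup G, IsPGroup q R → A ≤ Subgroup.normalizer (R : Set G) → Q₂ ≤ R → R = Q₂) :
    ∃ c ∈ Subgroup.centralizer (A : Set G), Q₂ = Q₁.map (MulAut.conj c).toMonoidHom := by
  set U : Subgroup G → Prop := fun Q => IsPGroup q Q ∧ A ≤ Subgroup.normalizer (Q : Set G) ∧
      ∀ R : Subgroup G, IsPGroup q R → A ≤ Subgroup.normalizer (R : Set G) → Q ≤ R → R = Q with hU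
  have hcomm : ∀ x ∈ A, ∀ y ∈ A, x * y = y * x := fun x hx y hy =>
    congrArg Subtype.val (mul_comm' (⟨x, hx⟩ : A) ⟨y, hy⟩)
  have hsub : ∀ F : Subgroup G, F ≤ A → IsMulCommutative F := fun F hF =>
    ⟨⟨fun a b => Subtype.ext (hcomm a (hF a.2) b (hF b.2))⟩⟩
  haveI hEc : IsMulCommutative E := hsub E hEA
  have hsolvA : Group.IsSolvable A := Group.isSolvable_of_comm fun a b => mul_comm' a b
  have hAq : ∀ Q : Subgroup G, IsPGroup q Q → (Nat.card A).Coprime (Nat.card Q) := fun Q hQ => by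
    obtain ⟨i, hi⟩ := IsPGroup.iff_card.1 hA
    obtain ⟨j, hj⟩ := IsPGroup.iff_card.1 hQ
    rw [hi, hj]
    exact ((Nat.coprime_primes hp.out hq.out).2 (Ne.symm hqp)).pow i j
  have hEK : ∀ Q : Subgroup G, A ≤ Subgroup.normalizer (Q : Set G) → ∀ F : Subgroup G, F ≤ E →
      p ^ 2 ≤ Nat.card F → IsPGroup q Q → ∀ R : Subgroup G, ¬ Q ≤ R →
      ∃ f ∈ F, f ≠ 1 ∧ ¬ Q ⊓ Subgroup.centralizer {f} ≤ R := by
    intro Q hQA F hFE hF hQ R hQR
    by_contra hcon
    push Not at hcon
    haveI : IsMulCommutative F := hsub F (hFE.trans hEA)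
    refine hQR ?_
    rw [← CoprimeAct.generated_by_centralizers (A := F) (K := Q)
      (not_isCyclic_of_exp (fun x hx => hexp x (hFE hx)) hF) ((hFE.trans hEA).trans hQA)
      ((hAq Q hQ).coprime_dvd_left (Subgroup.card_dvd_of_le (hFE.trans hEA)))]
    exact iSup₂_le fun f hf => hcon f hf.1 hf.2
  -- fixed-point subgroups are invariant
  have hinvC : ∀ f ∈ A, A ≤ Subgroup.normalizer (Subgroup.centralizer {f} : Set G) := fun f hf => by
    refine le_trans ?_ Subgroup.le_normalizer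
    intro a ha
    rw [Subgroup.mem_centralizer_singleton_iff]
    exact congrArg Subtype.val (mul_comm' (⟨a, ha⟩ : A) ⟨f, hf⟩)
  suffices h : ∀ (n : ℕ) (Q₁ Q₂ : Subgroup G), Nat.card G - Nat.card ↥(Q₁ ⊓ Q₂) = n → U Q₁ → U Q₂ →
      ∃ c ∈ Subgroup.centralizer (A : Set G), Q₂ = Q₁.map (MulAut.conj c).toMonoidHom from
    h _ _ _ rfl h₁ h₂
  intro n
  induction n using Nat.strong_induction_on with
  | _ n ih =>
  intro Q₁ Q₂ hn hU₁ hU₂
  subst hn
  set R := Q₁ ⊓ Q₂ with hR
  have hstep : ∀ S T : Subgroup G, U S → U T → Nat.card R < Nat.card ↥(S ⊓ T) →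
      ∃ c ∈ Subgroup.centralizer (A : Set G), T = S.map (MulAut.conj c).toMonoidHom := fun S T hS hT hlt =>
    ih _ (by
      have := (S ⊓ T : Subgroup G).card_le_card_group
      omega) S T rfl hS hT
  rcases eq_or_ne Q₁ Q₂ with rfl | hne
  · exact ⟨1, one_mem _, by rw [map_one]; exact (Subgroup.map_id Q₁).symm⟩
  have hlt₁ : R < Q₁ := lt_of_le_of_ne inf_le_left fun h =>
    hne (hU₁.2.2 Q₂ hU₂.1 hU₂.2.1 (inf_eq_left.1 h)).symm
  have hlt₂ : R < Q₂ := lt_of_le_of_ne inf_le_right fun h =>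
    hne (hU₂.2.2 Q₁ hU₁.1 hU₁.2.1 (inf_eq_right.1 h))
  have hRA : A ≤ Subgroup.normalizer (R : Set G) :=
    (le_inf hU₁.2.1 hU₂.2.1).trans Subgroup.inf_normalizer_le_normalizer_inf
  set N := Subgroup.normalizer (R : Set G) with hN
  have hNA : A ≤ Subgroup.normalizer (N : Set G) := hRA.trans Subgroup.le_normalizer
  -- choose a subgroup of order p^3
  have hEp : IsPGroup p E := hA.to_le hEA
  obtain ⟨E₃', hE₃⟩ : ∃ K : Subgroup E, Nat.card K = p ^ 3 := by
    refine Sylow.exists_subgroup_card_pow_prime p ?_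
    obtain ⟨k, hk⟩ := IsPGroup.iff_card.1 hEp
    rw [hk] at hE ⊢
    exact pow_dvd_pow p ((Nat.pow_le_pow_iff_right hp.out.one_lt).1 hE)
  set E₃ := E₃'.map E.subtype with hE₃def
  have hE₃E : E₃ ≤ E := Subgroup.map_subtype_le _
  have hE₃c : Nat.card E₃ = p ^ 3 := by
    rw [hE₃def, Subgroup.card_map_of_injective E.subtype_injective, hE₃]
  haveI : IsMulCommutative E₃ := hsub E₃ (hE₃E.trans hEA)
  have hpair : ∀ Q : Subgroup G, U Q → R < Q → ∃ F : Subgroup G, F ≤ E₃ ∧ p ^ 2 ≤ Nat.card F ∧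
      ¬ Q ⊓ N ⊓ Subgroup.centralizer (F : Set G) ≤ R := by
    intro Q hQ hRQ
    have hT : ¬ Q ⊓ N ≤ R :=
      (Fusion.lt_inf_normalizer hQ.1.isNilpotent hRQ).not_ge
    have hTA : A ≤ Subgroup.normalizer ((Q ⊓ N : Subgroup G) : Set G) :=
      (le_inf hQ.2.1 hNA).trans Subgroup.inf_normalizer_le_normalizer_inf
    obtain ⟨e, he, he1, heT⟩ := hEK _ hTA E₃ hE₃E
      (hE₃c ▸ Nat.pow_le_pow_right hp.out.pos (by norm_num)) (hQ.1.to_le inf_le_left) R hT
    obtain ⟨F, hFE, heF, hF⟩ := exists_hyperplane (E := E₃) (fun x hx => hexp x (hE₃E hx)) hE₃c.ge he he1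
    obtain ⟨f, hf, hf1, hfT⟩ := hEK (Q ⊓ N ⊓ Subgroup.centralizer {e})
      ((le_inf hTA (hinvC e (hEA (hE₃E he)))).trans Subgroup.inf_normalizer_le_normalizer_inf) F
      (hFE.trans hE₃E) hF (hQ.1.to_le (inf_le_left.trans inf_le_left)) R heT
    refine ⟨Subgroup.zpowers e ⊔ Subgroup.zpowers f, sup_le (Subgroup.zpowers_le.2 he)
      (Subgroup.zpowers_le.2 (hFE hf)), ?_, ?_⟩
    · have hef : Subgroup.zpowers f < Subgroup.zpowers e ⊔ Subgroup.zpowers f := by
        refine lt_of_le_of_ne le_sup_right fun h => heF ?_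
        have : e ∈ Subgroup.zpowers f := h ▸ Subgroup.mem_sup_left (Subgroup.mem_zpowers e)
        exact Subgroup.zpowers_le.2 hf this
      have hford : orderOf f = p := orderOf_eq_prime (hexp f (hE₃E (hFE hf))) hf1
      obtain ⟨j, hj⟩ := IsPGroup.iff_card.1 (hEp.to_le (sup_le (Subgroup.zpowers_le.2 (hE₃E he))
        (Subgroup.zpowers_le.2 (hE₃E (hFE hf))) : Subgroup.zpowers e ⊔ Subgroup.zpowers f ≤ E))
      have hlt := lt_of_le_of_ne (Subgroup.card_le_of_le hef.le)
        fun h => hef.ne (Subgroup.eq_of_le_of_card_ge hef.le h.ge)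
      rw [Nat.card_zpowers, hford, hj] at hlt
      rw [hj]
      refine Nat.pow_le_pow_right hp.out.pos ?_
      by_contra hj2
      have := Nat.pow_le_pow_right hp.out.pos (show j ≤ 1 by omega)
      rw [pow_one] at this
      omega
    · refine fun h => hfT (le_trans ?_ h)
      rintro x ⟨⟨hx1, hx2⟩, hx3⟩
      refine ⟨hx1, ?_⟩
      refine (Subgroup.le_centralizer_iff (H := Subgroup.zpowers e ⊔ Subgroup.zpowers f)
        (K := Subgroup.zpowers x)).1 ?_ (Subgroup.mem_zpowers x)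
      refine sup_le (Subgroup.zpowers_le.2 ?_) (Subgroup.zpowers_le.2 ?_) <;>
        refine Subgroup.mem_centralizer_iff.2 fun a ha => ?_ <;>
        obtain ⟨k, rfl⟩ := Subgroup.mem_zpowers_iff.1 ha
      · exact ((show Commute x e from Subgroup.mem_centralizer_singleton_iff.1 hx2).zpow_left k).eq
      · exact ((show Commute x f from Subgroup.mem_centralizer_singleton_iff.1 hx3).zpow_left k).eq
  obtain ⟨F₁, hF₁E, hF₁, hT₁⟩ := hpair Q₁ hU₁ hlt₁
  obtain ⟨F₂, hF₂E, hF₂, hT₂⟩ := hpair Q₂ hU₂ hlt₂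
  obtain ⟨b, hb, hb1⟩ : ∃ b ∈ F₁ ⊓ F₂, b ≠ 1 := by
    by_contra hcon
    push Not at hcon
    have hbot : F₁ ⊓ F₂ = ⊥ := (Subgroup.eq_bot_iff_forall _).2 hcon
    have := le_trans (Nat.mul_le_mul hF₁ hF₂) (TI.card_mul_card_le_of_inf_eq_bot hbot hF₁E hF₂E)
    rw [hE₃c, ← pow_add] at this
    exact absurd ((Nat.pow_le_pow_iff_right hp.out.one_lt).1 this) (by norm_num)
  have hbA : b ∈ A := hEA (hE₃E (hF₁E hb.1))
  obtain ⟨K, hKp, hKA, hKmax⟩ := hsig b (hE₃E (hF₁E hb.1)) hb1
  set T₁ := Q₁ ⊓ N ⊓ Subgroup.centralizer {b} with hT₁def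
  set T₂ := Q₂ ⊓ N ⊓ Subgroup.centralizer {b} with hT₂def
  have hT₁R : ¬ T₁ ≤ R := fun h => hT₁ (le_trans (inf_le_inf_left _
    (Subgroup.centralizer_le (Set.singleton_subset_iff.2 hb.1))) h)
  have hT₂R : ¬ T₂ ≤ R := fun h => hT₂ (le_trans (inf_le_inf_left _
    (Subgroup.centralizer_le (Set.singleton_subset_iff.2 hb.2))) h)
  have hTinv : ∀ Q : Subgroup G, U Q → IsPGroup q ↥(Q ⊓ N ⊓ Subgroup.centralizer {b}) ∧
      A ≤ Subgroup.normalizer ((Q ⊓ N ⊓ Subgroup.centralizer {b} : Subgroup G) : Set G) := fun Q hQ =>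
    ⟨hQ.1.to_le (inf_le_left.trans inf_le_left),
      (le_inf ((le_inf hQ.2.1 hNA).trans Subgroup.inf_normalizer_le_normalizer_inf) (hinvC b hbA)).trans
        Subgroup.inf_normalizer_le_normalizer_inf⟩
  set L := (K ⊓ N) ⊔ R with hL
  have hKN : K ⊓ N ≤ N := inf_le_right
  have hLA : A ≤ Subgroup.normalizer (L : Set G) := fun a ha => by
    have h1 : a ∈ Subgroup.normalizer ((K ⊓ N : Subgroup G) : Set G) :=
      Subgroup.inf_normalizer_le_normalizer_inf ⟨hKA ha, hNA ha⟩
    rw [Subgroup.mem_normalizer_iff_map_conj_eq] at h1 ⊢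
    rw [hL, Subgroup.map_sup, h1, Subgroup.mem_normalizer_iff_map_conj_eq.1 (hRA ha)]
  have hRq : IsPGroup q R := hU₁.1.to_le inf_le_left
  have hLp : (Nat.card L).Coprime p := by
    rw [PBasic.coprime_card_iff]
    intro x hx
    haveI hn : (R.subgroupOf L).Normal :=
      Subgroup.normal_subgroupOf_of_le_normalizer (sup_le hKN Subgroup.le_normalizer)
    have h1 : (Nat.card R).Coprime p := by
      obtain ⟨j, hj⟩ := IsPGroup.iff_card.1 hRq
      rw [hj]
      exact ((Nat.coprime_primes hq.out hp.out).2 hqp).pow_left j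
    have h2 : Nat.card L ∣ Nat.card ↥(K ⊓ N) * Nat.card R := by
      let φ : ↥(K ⊓ N) →* L ⧸ R.subgroupOf L :=
        (QuotientGroup.mk' _).comp (Subgroup.inclusion le_sup_left)
      have hsurj : Function.Surjective φ := by
        intro y
        obtain ⟨⟨y, hy⟩, rfl⟩ := QuotientGroup.mk'_surjective _ y
        obtain ⟨r, hr, k, hk, rfl⟩ := (SolvBasic.mem_sup_iff_of_le_normalizer hKN).1
          (show y ∈ R ⊔ (K ⊓ N) by rwa [sup_comm])
        refine ⟨⟨k, hk⟩, (QuotientGroup.eq_one_iff (N := R.subgroupOf L) _).2 ?_ |> fun h => inv_mul_eq_one.1 h⟩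
        show k⁻¹ * (r * k) ∈ R
        rw [← mul_assoc]
        exact (Subgroup.mem_normalizer_iff''.1 (hKN hk) r).1 hr
      rw [Subgroup.card_eq_card_quotient_mul_card_subgroup (R.subgroupOf L),
        Nat.card_congr (Subgroup.subgroupOfEquivOfLe (le_sup_right : R ≤ L)).toEquiv]
      exact Nat.mul_dvd_mul_right (Subgroup.card_dvd_of_surjective φ hsurj) _
    exact Nat.Coprime.coprime_dvd_left ((Subgroup.orderOf_dvd_natCard L hx).trans h2)
      (Nat.Coprime.mul_left (hKp.coprime_dvd_left (Subgroup.card_dvd_of_le inf_le_left)) h1)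
  have hcopL : (Nat.card A).Coprime (Nat.card L) := by
    obtain ⟨i, hi⟩ := IsPGroup.iff_card.1 hA
    rw [hi]
    exact hLp.symm.pow_left i
  have hTL : ∀ Q : Subgroup G, U Q → R < Q →
      ¬ Q ⊓ N ⊓ Subgroup.centralizer {b} ≤ R →
      ∃ S : Sylow q L, A ≤ Subgroup.normalizer (((S : Subgroup L).map L.subtype : Subgroup G) : Set G) ∧
        Nat.card R < Nat.card ↥(Q ⊓ (S : Subgroup L).map L.subtype) := by
    intro Q hQ hRQ hTR
    set T := Q ⊓ N ⊓ Subgroup.centralizer {b} with hTdef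
    obtain ⟨hTp, hTA⟩ := hTinv Q hQ
    have hTK : T ≤ K := hKmax T hTp hTA inf_le_right
    have hW : T ⊔ R ≤ Q := sup_le (inf_le_left.trans inf_le_left) hRQ.le
    obtain ⟨S, hS, hSA⟩ := CoprimeAct.exists_invariant_sylow_ge hLA hcopL (Or.inl hsolvA) (U := T ⊔ R)
      (sup_le ((le_inf hTK (inf_le_left.trans inf_le_right)).trans le_sup_left) le_sup_right)
      (hQ.1.to_le hW) (fun a ha => by
        rw [Subgroup.mem_normalizer_iff_map_conj_eq, Subgroup.map_sup,
          Subgroup.mem_normalizer_iff_map_conj_eq.1 (hTA ha),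
          Subgroup.mem_normalizer_iff_map_conj_eq.1 (hRA ha)])
    refine ⟨S, hSA, lt_of_lt_of_le ?_ (Subgroup.card_le_of_le (le_inf hW hS))⟩
    refine lt_of_le_of_ne (Subgroup.card_le_of_le le_sup_right) fun h => hTR ?_
    rw [Subgroup.eq_of_le_of_card_ge le_sup_right h.ge]
    exact le_sup_left
  obtain ⟨S₁, hS₁A, hS₁⟩ := hTL Q₁ hU₁ hlt₁ hT₁R
  obtain ⟨S₂, hS₂A, hS₂⟩ := hTL Q₂ hU₂ hlt₂ hT₂R
  obtain ⟨c, hc, hcS⟩ := CoprimeAct.invariant_sylow_conj hLA hcopL (Or.inl hsolvA) S₁ S₂ hS₁A hS₂A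
  obtain ⟨Q₃, hQ₃le, hQ₃max⟩ := Finite.exists_le_maximal (a := (S₁ : Subgroup L).map L.subtype)
    (p := fun S : Subgroup G => IsPGroup q S ∧ A ≤ Subgroup.normalizer (S : Set G))
    ⟨S₁.isPGroup'.map _, hS₁A⟩
  obtain ⟨⟨hQ₃p, hQ₃A⟩, hQ₃m⟩ := hQ₃max
  have hU₃ : U Q₃ := ⟨hQ₃p, hQ₃A, fun R' h1 h2 h3 => le_antisymm (hQ₃m ⟨h1, h2⟩ h3) h3⟩
  obtain ⟨c₁, hc₁, hQ₃eq⟩ := hstep Q₁ Q₃ hU₁ hU₃
    (hS₁.trans_le (Subgroup.card_le_of_le (inf_le_inf_left _ hQ₃le)))
  set g := (MulAut.conj (c : G)).toMonoidHom with hg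
  have hmapmax : ∀ (S : Subgroup G) (d : G), d ∈ Subgroup.centralizer (A : Set G) → U S →
      U (S.map (MulAut.conj d).toMonoidHom) := by
    intro S d hd hS
    have hnorm : ∀ (d : G), d ∈ Subgroup.centralizer (A : Set G) → ∀ W : Subgroup G,
        A ≤ Subgroup.normalizer (W : Set G) →
        A ≤ Subgroup.normalizer ((W.map (MulAut.conj d).toMonoidHom : Subgroup G) : Set G) := by
      intro d hd W hW a ha
      have h := Subgroup.mem_normalizer_iff_map_conj_eq.1 (hW ha)
      rw [Subgroup.mem_normalizer_iff_map_conj_eq, Subgroup.map_map]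
      have hcm : (MulAut.conj a).toMonoidHom.comp (MulAut.conj d).toMonoidHom =
          (MulAut.conj d).toMonoidHom.comp (MulAut.conj a).toMonoidHom := by
        ext x
        show a * (d * x * d⁻¹) * a⁻¹ = d * (a * x * a⁻¹) * d⁻¹
        have := Subgroup.mem_centralizer_iff.1 hd a ha
        calc a * (d * x * d⁻¹) * a⁻¹ = (a * d) * x * (a * d)⁻¹ := by group
          _ = _ := by rw [this]; group
      change W.map ((MulAut.conj a).toMonoidHom.comp (MulAut.conj d).toMonoidHom) = _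
      change W.map (MulAut.conj a).toMonoidHom = W at h
      rw [hcm, ← Subgroup.map_map, h]
    refine ⟨hS.1.map _, hnorm d hd S hS.2.1, fun R' h1 h2 h3 => ?_⟩
    have h4 := hS.2.2 (R'.map (MulAut.conj d⁻¹).toMonoidHom) (h1.map _) (hnorm _ (inv_mem hd) R' h2)
      (by
        intro x hx
        exact ⟨d * x * d⁻¹, h3 ⟨x, hx, rfl⟩, by simp [mul_assoc]⟩)
    rw [← h4, Subgroup.map_map]
    conv_lhs => rw [← Subgroup.map_id R']
    congr 1
    ext x
    simp [mul_assoc]
  have hU₄ := hmapmax Q₃ c hc hU₃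
  have hS₂le : (S₂ : Subgroup L).map L.subtype ≤ Q₃.map g := by
    rintro _ ⟨x, hx, rfl⟩
    rw [SetLike.mem_coe, ← hcS] at hx
    change x ∈ MulAut.conj c • (S₁ : Subgroup L) at hx
    rw [Subgroup.mem_pointwise_smul_iff_inv_smul_mem] at hx
    refine ⟨_, hQ₃le ⟨_, hx, rfl⟩, ?_⟩
    simp [hg, mul_assoc]
  obtain ⟨c₂, hc₂, hQ₂eq⟩ := hstep (Q₃.map g) Q₂ hU₄ hU₂
    (hS₂.trans_le (Subgroup.card_le_of_le (le_inf (inf_le_right.trans hS₂le) inf_le_left)))
  refine ⟨c₂ * c * c₁, mul_mem (mul_mem hc₂ hc) hc₁, ?_⟩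
  rw [hQ₂eq, hg, hQ₃eq, Subgroup.map_map, Subgroup.map_map]
  congr 1
  ext x
  simp [mul_assoc]

end Cfsg.Agent.CTransitivity
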