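import Cfsg.Prelude.Def_Transfer
import Cfsg.Agent.Lib.Classification.TI

/-!
Elementary abelian 2-subgroups: fixed points of commuting involutions, one-step extensions.
-/

set_option autoImplicit false

namespace Cfsg.Agent.ElemAb

open Cfsg
open scoped Pointwise

variable {G : Type*} [Group G]

theorem inv_eq {x : G} (h : x ^ 2 = 1) : x⁻¹ = x := inv_eq_of_mul_eq_one_right (by rwa [← sq])

theorem comm {E : Subgroup G} (hE : IsElementaryAbelian 2 E) {x y : G} (hx : x ∈ E) (hy : y ∈ E) :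
    x * y = y * x := by
  haveI := hE.1
  exact Subgroup.mem_centralizer_iff.1 (Subgroup.le_centralizer E hy) x hx

theorem of_le {E F : Subgroup G} (hE : IsElementaryAbelian 2 E) (h : F ≤ E) : IsElementaryAbelian 2 F :=
  ⟨⟨⟨fun x y => Subtype.ext (comm hE (h x.2) (h y.2))⟩⟩, fun x hx => hE.2 x (h hx)⟩

/-- An involutory automorphism of an elementary abelian 2-group has at least `√|K|` fixed points. -/
theorem card_le_sq_fixed [Finite G] {K : Subgroup G} (hK : IsElementaryAbelian 2 K) {v : G}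
    (hN : v ∈ Subgroup.normalizer (K : Set G)) (hv : v * v ∈ Subgroup.centralizer (K : Set G)) :
    Nat.card K ≤ Nat.card ↥(K ⊓ Subgroup.centralizer {v}) * Nat.card ↥(K ⊓ Subgroup.centralizer {v}) := by
  have hvK : ∀ e ∈ K, v * e * v⁻¹ ∈ K := fun e he => (Subgroup.mem_normalizer_iff.1 hN e).1 he
  let f : K →* K :=
    { toFun := fun e => ⟨e * (v * e * v⁻¹), mul_mem e.2 (hvK e e.2)⟩
      map_one' := Subtype.ext (by simp)
      map_mul' := fun a b => Subtype.ext (by
        show (a : G) * b * (v * ((a : G) * b) * v⁻¹) = a * (v * a * v⁻¹) * (b * (v * b * v⁻¹))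
        have h := comm hK b.2 (hvK a a.2)
        calc (a : G) * b * (v * ((a : G) * b) * v⁻¹) = a * ((b : G) * (v * a * v⁻¹)) * (v * b * v⁻¹) := by group
          _ = _ := by rw [h]; group) }
  have hfix : ∀ e : K, v * (e : G) * v⁻¹ = e → (e : G) ∈ K ⊓ Subgroup.centralizer {v} := fun e he =>
    ⟨e.2, Subgroup.mem_centralizer_singleton_iff.2 (mul_inv_eq_iff_eq_mul.1 he).symm⟩
  have h1 : Nat.card f.ker ≤ Nat.card ↥(K ⊓ Subgroup.centralizer {v}) := by
    refine Nat.card_le_card_of_injective (fun a : f.ker => (⟨(a : K), hfix _ ?_⟩ : ↥(K ⊓ Subgroup.centralizer {v}))) ?_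
    · have h : ((a : K) : G) * (v * (a : K) * v⁻¹) = 1 := congrArg Subtype.val (MonoidHom.mem_ker.1 a.2)
      rw [← inv_eq_of_mul_eq_one_right h, inv_eq (hK.2 _ (a : K).2)]
    · intro a b h
      exact Subtype.ext (Subtype.ext (congrArg (fun y : ↥(K ⊓ Subgroup.centralizer {v}) => (y : G)) h))
  have h2 : Nat.card f.range ≤ Nat.card ↥(K ⊓ Subgroup.centralizer {v}) := by
    refine Nat.card_le_card_of_injective (fun a : f.range => (⟨(a : K), hfix _ ?_⟩ : ↥(K ⊓ Subgroup.centralizer {v}))) ?_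
    · obtain ⟨_, e, rfl⟩ := a
      show v * ((e : G) * (v * e * v⁻¹)) * v⁻¹ = (e : G) * (v * e * v⁻¹)
      calc v * ((e : G) * (v * e * v⁻¹)) * v⁻¹ = (v * e * v⁻¹) * ((v * v) * e * (v * v)⁻¹) := by group
        _ = (v * e * v⁻¹) * e := by
          rw [← Subgroup.mem_centralizer_iff.1 hv e e.2, mul_inv_cancel_right]
        _ = _ := comm hK (hvK e e.2) e.2
    · intro a b h
      exact Subtype.ext (Subtype.ext (congrArg (fun y : ↥(K ⊓ Subgroup.centralizer {v}) => (y : G)) h))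
  have h3 := f.ker.card_mul_index
  rw [Subgroup.index_ker] at h3
  exact h3 ▸ Nat.mul_le_mul h1 h2

theorem le_normalizer_centralizer_inf {E : Subgroup G} [E.Normal] {v w : G} (h : w * v = v * w) :
    w ∈ Subgroup.normalizer ((E ⊓ Subgroup.centralizer {v} : Subgroup G) : Set G) := by
  rw [Subgroup.mem_normalizer_iff]
  intro x
  have key : ∀ u : G, u * v = v * u → ∀ x ∈ E ⊓ Subgroup.centralizer {v},
      u * x * u⁻¹ ∈ E ⊓ Subgroup.centralizer {v} := by
    rintro u hu x ⟨hx, hxv⟩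
    refine ⟨Subgroup.Normal.conj_mem inferInstance x hx u, Subgroup.mem_centralizer_singleton_iff.2 ?_⟩
    have hv' : u⁻¹ * v * u = v := by rw [mul_assoc, ← hu, inv_mul_cancel_left]
    have hxv' := Subgroup.mem_centralizer_singleton_iff.1 hxv
    calc u * x * u⁻¹ * v = u * (x * (u⁻¹ * v * u)) * u⁻¹ := by group
      _ = u * (v * x) * u⁻¹ := by rw [hv', hxv']
      _ = v * (u * x * u⁻¹) := by rw [← mul_assoc, hu]; group
  refine ⟨key w h x, fun hx => ?_⟩
  have h' : w⁻¹ * v = v * w⁻¹ := by rw [inv_mul_eq_iff_eq_mul, ← mul_assoc, h, mul_inv_cancel_right]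
  simpa [mul_assoc] using key w⁻¹ h' _ hx

theorem le_centralizer_singleton {V : Subgroup G} {e : G} (h : ∀ x ∈ V, x * e = e * x) :
    V ≤ Subgroup.centralizer {e} :=
  fun x hx => Subgroup.mem_centralizer_singleton_iff.2 (h x hx)

theorem isMulCommutative_sup {H K : Subgroup G} (hH : IsMulCommutative ↥H) (hK : IsMulCommutative ↥K)
    (h : ∀ x ∈ H, ∀ y ∈ K, x * y = y * x) : IsMulCommutative ↥(H ⊔ K) := by
  haveI := hH
  haveI := hK
  have h1 : K ≤ Subgroup.centralizer (H : Set G) := fun y hy => Subgroup.mem_centralizer_iff.2 fun x hx => h x hx y hy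
  have h2 : H ≤ Subgroup.centralizer (K : Set G) := Subgroup.le_centralizer_iff.1 h1
  have hs : H ⊔ K ≤ Subgroup.centralizer ((H ⊔ K : Subgroup G) : Set G) :=
    sup_le (Subgroup.le_centralizer_iff.1 (sup_le (Subgroup.le_centralizer H) h1))
      (Subgroup.le_centralizer_iff.1 (sup_le h2 (Subgroup.le_centralizer K)))
  exact Subgroup.le_centralizer_iff_isMulCommutative.1 hs

/-- Adjoin a commuting involution. -/
theorem adjoin [Finite G] {V : Subgroup G} (hV : IsElementaryAbelian 2 V) {e : G} (he : e ^ 2 = 1)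
    (hc : ∀ x ∈ V, x * e = e * x) (hne : e ∉ V) :
    IsElementaryAbelian 2 (V ⊔ Subgroup.zpowers e) ∧
      Nat.card ↥(V ⊔ Subgroup.zpowers e) = 2 * Nat.card V := by
  have hc' : ∀ x ∈ V, ∀ y ∈ Subgroup.zpowers e, x * y = y * x := by
    intro x hx y hy
    obtain ⟨n, rfl⟩ := Subgroup.mem_zpowers_iff.1 hy
    exact Commute.zpow_right (hc x hx) n
  have hord : orderOf e = 2 := orderOf_eq_prime he fun h => hne (h ▸ one_mem V)
  have hZ : ∀ y ∈ Subgroup.zpowers e, y ^ 2 = 1 := by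
    intro y hy
    obtain ⟨n, rfl⟩ := Subgroup.mem_zpowers_iff.1 hy
    rw [← zpow_natCast, ← zpow_mul, mul_comm, zpow_mul, zpow_natCast, he, one_zpow]
  have hnorm : V ≤ Subgroup.normalizer (Subgroup.zpowers e : Set G) := by
    rw [Subgroup.le_normalizer_iff]
    intro x hx y hy
    rw [hc' x hx y hy, mul_inv_cancel_right]
    exact hy
  have hdis : V ⊓ Subgroup.zpowers e = ⊥ := by
    rw [Subgroup.eq_bot_iff_forall]
    rintro x ⟨hxV, hxe⟩
    obtain ⟨n, rfl⟩ := Subgroup.mem_zpowers_iff.1 hxe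
    rcases Int.emod_two_eq_zero_or_one n with h | h
    · rw [← zpow_mod_orderOf, hord]; simp [h]
    · rw [← zpow_mod_orderOf, hord] at hxV; simp [h] at hxV; exact absurd hxV hne
  refine ⟨⟨isMulCommutative_sup hV.1 inferInstance hc', ?_⟩, ?_⟩
  · intro x hx
    have hx' : x ∈ (↑(V ⊔ Subgroup.zpowers e) : Set G) := hx
    rw [Subgroup.coe_mul_of_left_le_normalizer_right _ _ hnorm] at hx'
    obtain ⟨a, ha, b, hb, rfl⟩ := hx'
    show (a * b) ^ 2 = 1
    rw [(show Commute a b from hc' a ha b hb).mul_pow, hV.2 a ha, hZ b hb, one_mul]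
  · have hz : Nat.card ↥(Subgroup.zpowers e) = 2 := by rw [Nat.card_zpowers, hord]
    have h1 := TI.card_mul_card_le_of_inf_eq_bot hdis (le_sup_left) (le_sup_right (a := V))
    have h2 := TI.card_sup_le_of_le_normalizer hnorm
    rw [hz] at h1 h2
    omega

theorem bot : IsElementaryAbelian 2 (⊥ : Subgroup G) :=
  ⟨inferInstance, fun x hx => by rw [Subgroup.mem_bot.1 hx, one_pow]⟩

theorem zpowers_inv [Finite G] {v : G} (hv : v ^ 2 = 1) (h1 : v ≠ 1) :
    IsElementaryAbelian 2 (Subgroup.zpowers v) ∧ Nat.card ↥(Subgroup.zpowers v) = 2 := by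
  have h := adjoin (bot (G := G)) hv (fun x hx => by simp [Subgroup.mem_bot.1 hx]) (by simpa using h1)
  rwa [bot_sup_eq, Subgroup.card_bot, mul_one] at h

theorem card_eq_pow [Finite G] {E : Subgroup G} (hE : IsElementaryAbelian 2 E) : ∃ n, Nat.card E = 2 ^ n := by
  haveI : Fact (Nat.Prime 2) := ⟨Nat.prime_two⟩
  exact IsPGroup.iff_card.1 (fun x => ⟨1, Subtype.ext (by simpa using hE.2 x x.2)⟩)

theorem exists_le_card [Finite G] {E V : Subgroup G} (hE : IsElementaryAbelian 2 E) (hV : V ≤ E) (m : ℕ)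
    (h1 : Nat.card V ≤ 2 ^ m) (h2 : 2 ^ m ≤ Nat.card E) : ∃ W, V ≤ W ∧ W ≤ E ∧ Nat.card W = 2 ^ m := by
  haveI : Fact (Nat.Prime 2) := ⟨Nat.prime_two⟩
  obtain ⟨k, hk⟩ := card_eq_pow hE
  obtain ⟨j, hj⟩ := card_eq_pow (of_le hE hV)
  have hjm : j ≤ m := (Nat.pow_le_pow_iff_right (by norm_num)).1 (hj ▸ h1)
  have hmk : m ≤ k := (Nat.pow_le_pow_iff_right (by norm_num)).1 (hk ▸ h2)
  obtain ⟨K, hK, hVK⟩ := Sylow.exists_subgroup_card_pow_prime_le 2 (hk ▸ pow_dvd_pow 2 hmk) (V.subgroupOf E)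
    (by rw [Nat.card_congr (Subgroup.subgroupOfEquivOfLe hV).toEquiv, hj]) hjm
  refine ⟨K.map E.subtype, fun x hx => ⟨⟨x, hV hx⟩, hVK (Subgroup.mem_subgroupOf.2 hx), rfl⟩,
    Subgroup.map_subtype_le K, ?_⟩
  rw [← hK]
  exact Nat.card_congr (K.equivMapOfInjective _ E.subtype_injective).symm.toEquiv

theorem exists_mem_not_mem_of_card_lt {E V : Subgroup G} [Finite G] (h : Nat.card V < Nat.card E) :
    ∃ e ∈ E, e ∉ V := by
  by_contra hc
  push Not at hc
  exact absurd (Subgroup.card_le_of_le (fun e he => hc e he : E ≤ V)) (not_le.2 h)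

theorem isKleinFour_iff [Finite G] {U : Subgroup G} :
    IsKleinFour ↥U ↔ IsElementaryAbelian 2 U ∧ Nat.card U = 4 := by
  constructor
  · intro h
    refine ⟨⟨IsKleinFour.isMulCommutative, fun x hx => ?_⟩, h.card_four⟩
    have := Monoid.pow_exponent_eq_one (⟨x, hx⟩ : U)
    rw [h.exponent_two] at this
    exact congrArg Subtype.val this
  · rintro ⟨h, hc⟩
    haveI : Fact (Nat.Prime 2) := ⟨Nat.prime_two⟩
    haveI : Nontrivial U := Finite.one_lt_card_iff_nontrivial.1 (by omega)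
    refine ⟨hc, (Monoid.exponent_eq_prime_iff Nat.prime_two).2 fun g hg => ?_⟩
    exact orderOf_eq_prime (Subtype.ext (h.2 g g.2)) hg

theorem le_centralizer_sup {V : Subgroup G} {e : G} {D : Subgroup G} (hV : V ≤ Subgroup.centralizer (D : Set G))
    (he : ∀ d ∈ D, d * e = e * d) : V ⊔ Subgroup.zpowers e ≤ Subgroup.centralizer (D : Set G) :=
  sup_le hV (Subgroup.zpowers_le.2 (Subgroup.mem_centralizer_iff.2 fun d hd => he d hd))

end Cfsg.Agent.ElemAb
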