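import Cfsg.Prelude.Def_Local

/-!
Invariance of quasisimplicity, components, layer and generalized Fitting subgroup under isomorphisms.
-/

set_option autoImplicit false

namespace Cfsg.Agent.ClassBasic

open Cfsg

variable {G H : Type*} [Group G] [Group H]

theorem isQuasisimple_of_mulEquiv (e : G ≃* H) (h : IsQuasisimple G) : IsQuasisimple H := by
  obtain ⟨hp, hs⟩ := h
  refine ⟨Group.IsPerfect.ofSurjective (f := e.toMonoidHom) e.surjective, ?_⟩
  have hc : (Subgroup.center G).map e.toMonoidHom = Subgroup.center H := by
    ext y
    simp only [Subgroup.mem_map, Subgroup.mem_center_iff]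
    constructor
    · rintro ⟨x, hx, rfl⟩ g
      obtain ⟨g', rfl⟩ := e.surjective g
      simp [← map_mul, hx g']
    · intro hy
      refine ⟨e.symm y, fun g => e.injective ?_, by simp⟩
      simp [hy (e g)]
  exact (QuotientGroup.congr (Subgroup.center G) (Subgroup.center H) e hc).symm.isSimpleGroup

theorem isComponent_map (e : G ≃* H) {K : Subgroup G} (h : IsComponent K) :
    IsComponent (K.map e.toMonoidHom) :=
  ⟨h.1.map e.surjective, isQuasisimple_of_mulEquiv (K.equivMapOfInjective _ e.injective) h.2⟩

theorem map_generalizedFitting_le (e : G ≃* H) :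
    (generalizedFittingSubgroup G).map e.toMonoidHom ≤ generalizedFittingSubgroup H := by
  rw [generalizedFittingSubgroup, Subgroup.map_sup]
  refine sup_le_sup ?_ ?_
  · rw [layer, Subgroup.map_le_iff_le_comap, sSup_le_iff]
    intro K hK
    rw [← Subgroup.map_le_iff_le_comap]
    exact le_sSup (isComponent_map e hK)
  · rw [fittingSubgroup, Subgroup.map_le_iff_le_comap, sSup_le_iff]
    rintro N ⟨hN, hnil⟩
    rw [← Subgroup.map_le_iff_le_comap]
    exact le_sSup ⟨hN.map _ e.surjective,
      Group.nilpotent_of_mulEquiv (N.equivMapOfInjective e.toMonoidHom e.injective)⟩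

instance generalizedFitting_characteristic (G : Type*) [Group G] :
    (generalizedFittingSubgroup G).Characteristic :=
  Subgroup.characteristic_iff_map_le.2 fun e => map_generalizedFitting_le e

open scoped IsMulCommutative in
theorem zpowers_le_generalizedFitting {z : G} (hz : z ∈ Subgroup.center G) :
    z ∈ generalizedFittingSubgroup G := by
  have hn : (Subgroup.center G).Normal ∧ Group.IsNilpotent (Subgroup.center G) :=
    ⟨inferInstance, inferInstance⟩
  exact Subgroup.mem_sup_right (Subgroup.mem_sSup_of_mem hn hz)

/-- The element `z` seen in its own centraliser. -/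
def selfCent (z : G) : Subgroup.centralizer ({z} : Set G) :=
  ⟨z, Subgroup.mem_centralizer_singleton_iff.2 rfl⟩

theorem selfCent_mem_center (z : G) : selfCent z ∈ Subgroup.center _ :=
  Subgroup.mem_center_iff.2 fun g => Subtype.ext (Subgroup.mem_centralizer_singleton_iff.1 g.2)

theorem selfCent_mem_gfit (z : G) :
    selfCent z ∈ generalizedFittingSubgroup ↥(Subgroup.centralizer ({z} : Set G)) :=
  zpowers_le_generalizedFitting (selfCent_mem_center z)

theorem eq_of_isCyclic_of_orderOf_two {A : Type*} [Group A] [Finite A] [IsCyclic A] {x y : A}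
    (hx : orderOf x = 2) (hy : orderOf y = 2) : x = y := by
  classical
  haveI := Fintype.ofFinite A
  by_contra hne
  have h := IsCyclic.card_pow_eq_one_le (α := A) (n := 2) (by norm_num)
  have h1 : x ≠ 1 := fun h => by rw [h, orderOf_one] at hx; omega
  have h2 : y ≠ 1 := fun h => by rw [h, orderOf_one] at hy; omega
  have hsub : ({1, x, y} : Finset A) ⊆ Finset.univ.filter fun a => a ^ 2 = 1 := by
    intro a ha
    simp only [Finset.mem_insert, Finset.mem_singleton] at ha
    simp only [Finset.mem_filter, Finset.mem_univ, true_and]
    rcases ha with rfl | rfl | rfl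
    · exact one_pow 2
    · rw [← hx, pow_orderOf_eq_one]
    · rw [← hy, pow_orderOf_eq_one]
  have h3 := Finset.card_le_card hsub
  rw [Finset.card_insert_of_notMem (by simp [h1.symm, h2.symm]), Finset.card_insert_of_notMem (by simp [hne]),
    Finset.card_singleton] at h3
  omega

end Cfsg.Agent.ClassBasic
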