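import Mathlib
import Cfsg.Agent.Lib.LocalEven.Zsigmondy

/-!
Finite special Jordan division systems of characteristic 2 are commutative: an additive subgroup `S` of a
ring containing `1`, closed under `a b a` and under inverses (in particular every non-zero element is a
unit) consists of commuting elements.
-/

set_option autoImplicit false

namespace Cfsg.Agent.JordanField

variable {R : Type*} [Ring R]

/-- A special Jordan division system inside a ring of characteristic 2. -/
structure JSys (S : AddSubgroup R) : Prop where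
  char : (1 : R) + 1 = 0
  one : (1 : R) ∈ S
  inv : ∀ a ∈ S, a ≠ 0 → ∃ b ∈ S, a * b = 1 ∧ b * a = 1
  tri : ∀ a ∈ S, ∀ b ∈ S, a * b * a ∈ S

variable {S : AddSubgroup R}

theorem JSys.add_self (h : JSys S) (x : R) : x + x = 0 := by
  rw [← two_mul, show (2 : R) = 1 + 1 from one_add_one_eq_two.symm, h.char, zero_mul]

theorem JSys.neg_eq (h : JSys S) (x : R) : -x = x :=
  neg_eq_of_add_eq_zero_left (h.add_self x)

theorem JSys.eq_of_add (h : JSys S) {x y : R} (e : x + y = 0) : x = y := by
  rw [eq_neg_of_add_eq_zero_left e, h.neg_eq]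

theorem JSys.sq_mem (h : JSys S) {a : R} (ha : a ∈ S) : a * a ∈ S := by
  simpa using h.tri a ha 1 h.one

theorem JSys.sym_mem (h : JSys S) {a b : R} (ha : a ∈ S) (hb : b ∈ S) : a * b + b * a ∈ S := by
  have e : (a + b) * (a + b) - a * a - b * b = a * b + b * a := by noncomm_ring
  rw [← e]
  exact S.sub_mem (S.sub_mem (h.sq_mem (S.add_mem ha hb)) (h.sq_mem ha)) (h.sq_mem hb)

theorem JSys.pow_mem (h : JSys S) {a : R} (ha : a ∈ S) : ∀ k : ℕ, a ^ k ∈ S
  | 0 => by rw [pow_zero]; exact h.one
  | 1 => by rw [pow_one]; exact ha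
  | k + 2 => by
    have := h.tri a ha _ (h.pow_mem ha k)
    rwa [show a * a ^ k * a = a ^ (k + 2) by rw [← pow_succ', ← pow_succ]] at this

theorem JSys.eq_zero_of_mul (h : JSys S) {a x : R} (ha : a ∈ S) (ha0 : a ≠ 0) (e : a * x = 0) : x = 0 := by
  obtain ⟨b, -, -, hb⟩ := h.inv a ha ha0
  rw [← one_mul x, ← hb, mul_assoc, e, mul_zero]

theorem JSys.eq_zero_of_sq (h : JSys S) {a : R} (ha : a ∈ S) (e : a * a = 0) : a = 0 := by
  by_contra h0
  exact h0 (h.eq_zero_of_mul ha h0 e)

/-- The additive subgroup generated by the powers of `a`. -/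
def gen (a : R) : AddSubgroup R := AddSubgroup.closure (Set.range fun k : ℕ => a ^ k)

theorem pow_mem_gen (a : R) (k : ℕ) : a ^ k ∈ gen a := AddSubgroup.subset_closure ⟨k, rfl⟩

theorem self_mem_gen (a : R) : a ∈ gen a := by simpa using pow_mem_gen a 1

theorem gen_le (h : JSys S) {a : R} (ha : a ∈ S) : gen a ≤ S :=
  (AddSubgroup.closure_le _).2 (by rintro _ ⟨k, rfl⟩; exact h.pow_mem ha k)

theorem commute_gen {a x : R} (hx : Commute x a) {y : R} (hy : y ∈ gen a) : Commute x y := by
  induction hy using AddSubgroup.closure_induction with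
  | mem y hy => obtain ⟨k, rfl⟩ := hy; exact hx.pow_right k
  | zero => exact Commute.zero_right x
  | add y z _ _ h1 h2 => exact h1.add_right h2
  | neg y _ h1 => exact h1.neg_right

theorem gen_comm {a x y : R} (hx : x ∈ gen a) (hy : y ∈ gen a) : Commute x y :=
  commute_gen (commute_gen (Commute.refl a) hx).symm hy

theorem mul_mem_gen {a x y : R} (hx : x ∈ gen a) (hy : y ∈ gen a) : x * y ∈ gen a := by
  induction hx using AddSubgroup.closure_induction with
  | mem x hx =>
    obtain ⟨i, rfl⟩ := hx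
    induction hy using AddSubgroup.closure_induction with
    | mem y hy => obtain ⟨j, rfl⟩ := hy; simp only; rw [← pow_add]; exact pow_mem_gen a _
    | zero => simp
    | add y z _ _ h1 h2 => rw [mul_add]; exact add_mem h1 h2
    | neg y _ h1 => rw [mul_neg]; exact neg_mem h1
  | zero => simp
  | add x z _ _ h1 h2 => rw [add_mul]; exact add_mem h1 h2
  | neg x _ h1 => rw [neg_mul]; exact neg_mem h1

theorem sq_add (h : JSys S) {x y : R} (c : Commute x y) : (x + y) * (x + y) = x * x + y * y := by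
  have e : (x + y) * (x + y) = x * x + y * y + (x * y + y * x) := by noncomm_ring
  rw [e, c.eq, h.add_self, add_zero]

theorem sq_mem_gen_sq (h : JSys S) {a x : R} (hx : x ∈ gen a) : x * x ∈ gen (a * a) := by
  induction hx using AddSubgroup.closure_induction with
  | mem x hx =>
    obtain ⟨k, rfl⟩ := hx
    simp only
    rw [show a ^ k * a ^ k = (a * a) ^ k by rw [(Commute.refl a).mul_pow]]
    exact pow_mem_gen _ _
  | zero => simp
  | add x y hx hy h1 h2 => rw [sq_add h (gen_comm hx hy)]; exact add_mem h1 h2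
  | neg x _ h1 => rwa [neg_mul_neg]

section finite

variable [Finite R]

/-- Every element of `gen a` is a square in `gen a`. -/
theorem exists_sq_in_gen (h : JSys S) {a : R} (ha : a ∈ S) {x : R} (hx : x ∈ gen a) :
    ∃ y ∈ gen a, y * y = x := by
  let f : gen a → gen a := fun y => ⟨(y : R) * y, mul_mem_gen y.2 y.2⟩
  have hinj : Function.Injective f := by
    intro y z e
    have e' : (y : R) * y = z * z := congrArg Subtype.val e
    have h0 : ((y : R) + z) * (y + z) = 0 := by
      rw [sq_add h (gen_comm y.2 z.2), e', h.add_self]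
    exact Subtype.ext (h.eq_of_add (h.eq_zero_of_sq (gen_le h ha (add_mem y.2 z.2)) h0))
  obtain ⟨y, hy⟩ := Finite.injective_iff_surjective.1 hinj ⟨x, hx⟩
  exact ⟨y, y.2, congrArg Subtype.val hy⟩

theorem mem_gen_sq (h : JSys S) {a : R} (ha : a ∈ S) : a ∈ gen (a * a) := by
  obtain ⟨y, hy, e⟩ := exists_sq_in_gen h ha (self_mem_gen a)
  have h' := sq_mem_gen_sq h hy
  rwa [e] at h'

theorem commute_of_commute_sq (h : JSys S) {a x : R} (ha : a ∈ S) (hx : Commute x (a * a)) :
    Commute x a :=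
  commute_gen hx (mem_gen_sq h ha)

theorem sq_inj (h : JSys S) {a b : R} (ha : a ∈ S) (hb : b ∈ S) (e : a * a = b * b) : a = b := by
  have c : Commute a b := gen_comm (mem_gen_sq h ha) (e ▸ mem_gen_sq h hb)
  refine h.eq_of_add (h.eq_zero_of_sq (S.add_mem ha hb) ?_)
  rw [sq_add h c, e, h.add_self]

theorem exists_sqrt (h : JSys S) {a : R} (ha : a ∈ S) : ∃ b ∈ S, b * b = a ∧ ∀ x, Commute x a → Commute x b := by
  obtain ⟨y, hy, e⟩ := exists_sq_in_gen h ha (self_mem_gen a)
  exact ⟨y, gen_le h ha hy, e, fun x hx => commute_gen hx hy⟩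

theorem mul_mem_of_commute (h : JSys S) {a b : R} (ha : a ∈ S) (hb : b ∈ S) (c : Commute a b) : a * b ∈ S := by
  obtain ⟨r, hr, e, hc⟩ := exists_sqrt h ha
  have : r * b * r = a * b := by
    rw [← e, mul_assoc, mul_assoc, (hc b c.symm).eq]
  exact this ▸ h.tri r hr b hb

end finite

/-! ### The group generated by the maps `x ↦ a x a` -/

section perm

variable [Finite R] (h : JSys S)

open Classical in
/-- The map `x ↦ a x a` as a permutation of `S` (the identity for `a = 0`). -/
noncomputable def U (a : S) : Equiv.Perm S :=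
  if ha : (a : R) = 0 then 1 else
    Equiv.ofBijective (fun x : S => (⟨a * x * a, h.tri a a.2 x x.2⟩ : S))
      ⟨fun x y e => by
        have e' : (a : R) * x * a = a * y * a := congrArg Subtype.val e
        obtain ⟨b, -, hb1, hb2⟩ := h.inv a a.2 ha
        refine Subtype.ext ?_
        calc (x : R) = b * (a * x * a) * b := by
              rw [mul_assoc (a : R), ← mul_assoc b, hb2, one_mul, mul_assoc, hb1, mul_one]
          _ = b * (a * y * a) * b := by rw [e']
          _ = y := by rw [mul_assoc (a : R), ← mul_assoc b, hb2, one_mul, mul_assoc, hb1, mul_one],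
        Finite.injective_iff_surjective.1 fun x y e => by
          have e' : (a : R) * x * a = a * y * a := congrArg Subtype.val e
          obtain ⟨b, -, hb1, hb2⟩ := h.inv a a.2 ha
          refine Subtype.ext ?_
          calc (x : R) = b * (a * x * a) * b := by
                rw [mul_assoc (a : R), ← mul_assoc b, hb2, one_mul, mul_assoc, hb1, mul_one]
            _ = b * (a * y * a) * b := by rw [e']
            _ = y := by rw [mul_assoc (a : R), ← mul_assoc b, hb2, one_mul, mul_assoc, hb1, mul_one]⟩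

theorem U_val {a : S} (ha : (a : R) ≠ 0) (x : S) : ((U h a x : S) : R) = a * x * a := by
  rw [U, dif_neg ha]; rfl

/-- The unit element of `S`. -/
def one' : S := ⟨1, h.one⟩

open Classical in
/-- Inversion on `S`. -/
noncomputable def invFun (a : S) : S :=
  if ha : (a : R) = 0 then a else ⟨Classical.choose (h.inv a a.2 ha), (Classical.choose_spec (h.inv a a.2 ha)).1⟩

theorem invFun_spec {a : S} (ha : (a : R) ≠ 0) :
    (a : R) * invFun h a = 1 ∧ (invFun h a : R) * a = 1 := by
  rw [invFun, dif_neg ha]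
  exact (Classical.choose_spec (h.inv a a.2 ha)).2

theorem invFun_zero {a : S} (ha : (a : R) = 0) : invFun h a = a := by rw [invFun, dif_pos ha]

theorem invFun_eq_of_mul {a b : S} (ha : (a : R) ≠ 0) (e : (a : R) * b = 1) : invFun h a = b := by
  refine Subtype.ext ?_
  obtain ⟨-, h2⟩ := invFun_spec h ha
  calc (invFun h a : R) = invFun h a * (a * b) := by rw [e, mul_one]
    _ = b := by rw [← mul_assoc, h2, one_mul]

theorem invFun_invol : Function.Involutive (invFun h) := by
  intro a
  by_cases ha : (a : R) = 0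
  · rw [invFun_zero h ha, invFun_zero h ha]
  · obtain ⟨h1, h2⟩ := invFun_spec h ha
    have hne : (invFun h a : R) ≠ 0 := fun h0 => by
      rw [h0, mul_zero] at h1
      exact ha (by rw [← mul_one (a : R), ← h1, mul_zero])
    exact invFun_eq_of_mul h hne h2

/-- Inversion as a permutation. -/
noncomputable def ι : Equiv.Perm S := (invFun_invol h).toPerm _

theorem ι_apply (x : S) : ι h x = invFun h x := rfl

theorem ι_mul_self : ι h * ι h = 1 := Equiv.ext fun x => invFun_invol h x

theorem ι_inv : (ι h)⁻¹ = ι h := inv_eq_of_mul_eq_one_right (ι_mul_self h)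

/-- Conjugation by inversion. -/
noncomputable def θ : MulAut (Equiv.Perm S) := MulAut.conj (ι h)

theorem θ_apply (g : Equiv.Perm S) : θ h g = ι h * g * ι h := by
  rw [θ, MulAut.conj_apply, ι_inv]

theorem θ_θ (g : Equiv.Perm S) : θ h (θ h g) = g := by
  rw [θ_apply, θ_apply]
  rw [show ι h * (ι h * g * ι h) * ι h = (ι h * ι h) * g * (ι h * ι h) by group, ι_mul_self, one_mul, mul_one]

/-- The group generated by the maps `x ↦ a x a`. -/
noncomputable def L : Subgroup (Equiv.Perm S) := Subgroup.closure (Set.range (U h))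

theorem U_mem (a : S) : U h a ∈ L h := Subgroup.subset_closure ⟨a, rfl⟩

theorem U_one : U h (one' h) = 1 := by
  refine Equiv.ext fun x => Subtype.ext ?_
  by_cases h1 : (1 : R) = 0
  · exact (eq_of_zero_eq_one h1.symm _ _)
  · rw [U_val h (a := one' h) (by simpa [one'] using h1)]
    simp [one']

theorem U_apply_one {a : S} (ha : (a : R) ≠ 0) : ((U h a (one' h) : S) : R) = a * a := by
  rw [U_val h ha]; simp [one']

theorem additive {g : Equiv.Perm S} (hg : g ∈ L h) : ∀ x y, g (x + y) = g x + g y := by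
  induction hg using Subgroup.closure_induction with
  | mem g hg =>
    obtain ⟨a, rfl⟩ := hg
    intro x y
    by_cases ha : (a : R) = 0
    · simp [U, ha]
    · refine Subtype.ext ?_
      rw [AddSubgroup.coe_add, U_val h ha, U_val h ha, U_val h ha, AddSubgroup.coe_add, mul_add, add_mul]
  | one => intro x y; simp
  | mul g k _ _ hg hk => intro x y; rw [Equiv.Perm.mul_apply, hk, hg]; rfl
  | inv g _ hg =>
    intro x y
    apply g.injective
    rw [hg]; simp

theorem map_zero' {g : Equiv.Perm S} (hg : g ∈ L h) : g 0 = 0 := by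
  have := additive h hg 0 0
  rw [add_zero] at this
  exact (add_eq_left.1 this.symm)

theorem val_ne_zero {g : Equiv.Perm S} (hg : g ∈ L h) {x : S} (hx : (x : R) ≠ 0) : (g x : R) ≠ 0 := by
  intro h0
  apply hx
  have : g x = g 0 := by rw [map_zero' h hg]; exact Subtype.ext h0
  rw [g.injective this]; rfl

theorem θ_U {a : S} (ha : (a : R) ≠ 0) : θ h (U h a) = (U h a)⁻¹ := by
  rw [θ_apply, eq_inv_iff_mul_eq_one]
  refine Equiv.ext fun x => ?_
  simp only [Equiv.Perm.mul_apply, Equiv.Perm.one_apply, ι_apply]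
  by_cases hx : (x : R) = 0
  · have hx0 : x = 0 := Subtype.ext hx
    subst hx0
    rw [map_zero' h (U_mem h a), invFun_zero h hx, map_zero' h (U_mem h a), invFun_zero h hx]
  · obtain ⟨i1, i2⟩ := invFun_spec h ha
    have hax : ((U h a x : S) : R) ≠ 0 := val_ne_zero h (U_mem h a) hx
    obtain ⟨j1, j2⟩ := invFun_spec h hax
    rw [U_val h ha] at j1 j2
    have hy : ((U h a (invFun h (U h a x)) : S) : R) ≠ 0 :=
      val_ne_zero h (U_mem h a) fun h0 => by
        rw [h0, zero_mul] at j2
        exact hax (by rw [← mul_one ((U h a x : S) : R), ← j2, mul_zero])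
    refine invFun_eq_of_mul h hy ?_
    rw [U_val h ha]
    generalize hw : ((invFun h (U h a x) : S) : R) = w at j1 j2
    calc (a : R) * w * a * x = (a * w * a * x) * (a * invFun h a) := by rw [i1, mul_one]
      _ = a * (w * (a * x * a)) * invFun h a := by simp only [mul_assoc]
      _ = 1 := by rw [j2, mul_one, i1]

theorem θ_mem {g : Equiv.Perm S} (hg : g ∈ L h) : θ h g ∈ L h := by
  induction hg using Subgroup.closure_induction with
  | mem g hg =>
    obtain ⟨a, rfl⟩ := hg
    by_cases ha : (a : R) = 0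
    · rw [U, dif_pos ha, map_one]; exact one_mem _
    · rw [θ_U h ha]; exact inv_mem (U_mem h a)
  | one => rw [map_one]; exact one_mem _
  | mul g k _ _ hg hk => rw [map_mul]; exact mul_mem hg hk
  | inv g _ hg => rw [map_inv]; exact inv_mem hg

/-- The structural identity. -/
theorem U_apply {g : Equiv.Perm S} (hg : g ∈ L h) :
    ∀ x : S, (x : R) ≠ 0 → U h (g x) = g * U h x * (θ h g)⁻¹ := by
  induction hg using Subgroup.closure_induction with
  | mem g hg =>
    obtain ⟨a, rfl⟩ := hg
    intro x hx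
    by_cases ha : (a : R) = 0
    · rw [show U h a = 1 by rw [U, dif_pos ha]]; simp
    · rw [θ_U h ha, inv_inv]
      refine Equiv.ext fun y => Subtype.ext ?_
      rw [U_val h (val_ne_zero h (U_mem h a) hx), Equiv.Perm.mul_apply, Equiv.Perm.mul_apply, U_val h ha,
        U_val h ha, U_val h hx, U_val h ha]
      simp only [mul_assoc]
  | one => intro x _; simp
  | mul g k hg' hk' hg hk =>
    intro x hx
    rw [Equiv.Perm.mul_apply, hg _ (val_ne_zero h hk' hx), hk x hx, map_mul]
    group
  | inv g hg' hg =>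
    intro x hx
    have := hg (g⁻¹ x) (val_ne_zero h (inv_mem hg') hx)
    rw [Equiv.Perm.coe_inv, Equiv.apply_symm_apply] at this
    rw [this, map_inv]
    group
    simp

theorem θ_eq_of_fix (h1 : (1 : R) ≠ 0) {g : Equiv.Perm S} (hg : g ∈ L h) (hfix : g (one' h) = one' h) :
    θ h g = g := by
  have := U_apply h hg (one' h) (by simpa [one'] using h1)
  rw [hfix, U_one, mul_one] at this
  exact (mul_inv_eq_one.1 this.symm).symm

end perm

/-! ### Fixed systems of automorphisms -/

section main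

variable [Finite R]

theorem nat_card_eq_pow (h : JSys S) : ∃ n, Nat.card S = 2 ^ n := by
  have : IsPGroup 2 (Multiplicative S) := fun x => ⟨1, by
    rw [pow_one, sq]
    exact Multiplicative.toAdd.injective (Subtype.ext (h.add_self _))⟩
  obtain ⟨n, hn⟩ := this.exists_card_eq
  exact ⟨n, by rw [← hn]; exact (Nat.card_congr Multiplicative.toAdd).symm⟩

/-- Two elements of a small commutative piece: if `S` has at most `|M|²` elements and contains `x ∉ M`
commuting with `M`, then `S` is commutative. -/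
theorem commutative_of_pair (h : JSys S) {M : AddSubgroup R} (hMS : M ≤ S)
    (hMm : ∀ a ∈ M, ∀ b ∈ M, a * b ∈ M) (hMi : ∀ a ∈ M, a ≠ 0 → ∃ b ∈ M, b * a = 1)
    (hMc : ∀ a ∈ M, ∀ b ∈ M, Commute a b) {x : R} (hx : x ∈ S) (hxM : x ∉ M)
    (hxc : ∀ a ∈ M, Commute x a) (hcard : Nat.card S ≤ Nat.card M * Nat.card M) :
    ∀ a ∈ S, ∀ b ∈ S, Commute a b := by
  let f : M × M → S := fun p => ⟨(p.1 : R) + p.2 * x,
    S.add_mem (hMS p.1.2) (mul_mem_of_commute h (hMS p.2.2) hx (hxc _ p.2.2).symm)⟩
  have hinj : Function.Injective f := by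
    rintro ⟨m, n⟩ ⟨m', n'⟩ e
    have e' : (m : R) + n * x = m' + n' * x := congrArg Subtype.val e
    have e2 : ((n : R) - n') * x = m' - m := by rw [sub_mul]; linear_combination (norm := abel) e'
    by_cases hn : (n : R) - n' = 0
    · rw [hn, zero_mul] at e2
      exact Prod.ext (Subtype.ext (sub_eq_zero.1 e2.symm).symm) (Subtype.ext (sub_eq_zero.1 hn))
    · obtain ⟨c, hc, hcn⟩ := hMi _ (M.sub_mem n.2 n'.2) hn
      exfalso
      apply hxM
      rw [← one_mul x, ← hcn, mul_assoc, e2]
      exact hMm _ hc _ (M.sub_mem m'.2 m.2)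
  have hsurj : Function.Surjective f := by
    have hle : Nat.card S ≤ Nat.card (M × M) := by rw [Nat.card_prod]; exact hcard
    exact (hinj.bijective_of_nat_card_le hle).2
  intro a ha b hb
  obtain ⟨⟨m, n⟩, hmn⟩ := hsurj ⟨a, ha⟩
  obtain ⟨⟨m', n'⟩, hmn'⟩ := hsurj ⟨b, hb⟩
  rw [← show (m : R) + n * x = a from congrArg Subtype.val hmn,
    ← show (m' : R) + n' * x = b from congrArg Subtype.val hmn']
  have c1 := fun (u v : M) => hMc u u.2 v v.2
  have c2 := fun (u : M) => hxc u u.2
  exact (((c1 m m').add_right ((c1 m n').mul_right (c2 m).symm)).add_left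
    (((c1 n m').mul_left (c2 m')).add_right
      (((c1 n n').mul_left (c2 n')).mul_right ((c2 n).symm.mul_left (Commute.refl x)))))

variable (h : JSys S)

/-- In a non-commutative system the group `L` has odd order. -/
theorem odd_L (h1 : (1 : R) ≠ 0)
    (IH : ∀ M : AddSubgroup R, M < S → JSys M → ∀ a ∈ M, ∀ b ∈ M, Commute a b)
    (hnc : ¬ ∀ a ∈ S, ∀ b ∈ S, Commute a b) : Odd (Nat.card (L h)) := by
  by_contra hodd
  rw [Nat.not_odd_iff_even, even_iff_two_dvd] at hodd
  obtain ⟨t₀, ht₀⟩ := exists_prime_orderOf_dvd_card' 2 hodd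
  obtain ⟨t, htL, ht2, htne⟩ : ∃ t : Equiv.Perm S, t ∈ L h ∧ t * t = 1 ∧ t ≠ 1 := by
    refine ⟨t₀, t₀.2, ?_, fun e => ?_⟩
    · have := pow_orderOf_eq_one t₀
      rw [ht₀, sq] at this
      exact congrArg Subtype.val this
    · rw [show t₀ = 1 from Subtype.ext e, orderOf_one] at ht₀; norm_num at ht₀
  -- move a fixed point to 1
  obtain ⟨x₀, hx₀⟩ : ∃ x, t x ≠ x := by
    by_contra hall; push Not at hall; exact htne (Equiv.ext hall)
  have hb0 : ((x₀ + t x₀ : S) : R) ≠ 0 := fun e => hx₀ (Subtype.ext (h.eq_of_add e).symm)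
  have hbfix : t (x₀ + t x₀) = x₀ + t x₀ := by
    rw [additive h htL, ← Equiv.Perm.mul_apply, ht2, Equiv.Perm.one_apply, add_comm]
  obtain ⟨a, ha, ea, -⟩ := exists_sqrt h (x₀ + t x₀).2
  have ha0 : ((⟨a, ha⟩ : S) : R) ≠ 0 := fun e => hb0 (by simp only at e; rw [← ea, e, mul_zero])
  have hUa : U h ⟨a, ha⟩ (one' h) = x₀ + t x₀ := Subtype.ext (by rw [U_apply_one h ha0]; exact ea)
  obtain ⟨s, hsL, hs2, hsne, hs1⟩ : ∃ s : Equiv.Perm S, s ∈ L h ∧ s * s = 1 ∧ s ≠ 1 ∧ s (one' h) = one' h := by
    refine ⟨(U h ⟨a, ha⟩)⁻¹ * t * U h ⟨a, ha⟩,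
      mul_mem (mul_mem (inv_mem (U_mem h _)) htL) (U_mem h _), ?_, fun e => htne ?_, ?_⟩
    · rw [show (U h ⟨a, ha⟩)⁻¹ * t * U h ⟨a, ha⟩ * ((U h ⟨a, ha⟩)⁻¹ * t * U h ⟨a, ha⟩) =
        (U h ⟨a, ha⟩)⁻¹ * (t * t) * U h ⟨a, ha⟩ by group, ht2]
      group
    · rw [show t = U h ⟨a, ha⟩ * ((U h ⟨a, ha⟩)⁻¹ * t * U h ⟨a, ha⟩) * (U h ⟨a, ha⟩)⁻¹ by group, e]
      group
    · rw [Equiv.Perm.mul_apply, Equiv.Perm.mul_apply, hUa, hbfix, ← hUa, Equiv.Perm.coe_inv, Equiv.symm_apply_apply]
  clear! t
  have hθ : θ h s = s := θ_eq_of_fix h h1 hsL hs1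
  have hauto : ∀ x y : S, (x : R) ≠ 0 → ((s (U h x y) : S) : R) = s x * s y * s x := by
    intro x y hx
    have e := U_apply h hsL x hx
    rw [hθ] at e
    rw [← U_val h (val_ne_zero h hsL hx), e]
    simp
  have hinv : ∀ x : S, s (invFun h x) = invFun h (s x) := fun x => by
    have e : ι h * s * ι h = s := by rw [← θ_apply]; exact hθ
    conv_lhs => rw [← e]
    simp only [Equiv.Perm.mul_apply, ι_apply, invFun_invol h x]
  let M : AddSubgroup R :=
    { carrier := {x | ∃ hx : x ∈ S, s ⟨x, hx⟩ = ⟨x, hx⟩}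
      zero_mem' := ⟨S.zero_mem, map_zero' h hsL⟩
      add_mem' := fun {x y} ⟨hx, ex⟩ ⟨hy, ey⟩ => ⟨S.add_mem hx hy, by
        have := additive h hsL ⟨x, hx⟩ ⟨y, hy⟩
        rwa [ex, ey] at this⟩
      neg_mem' := fun {x} hx => by rw [h.neg_eq]; exact hx }
  have hMS : M ≤ S := fun x hx => hx.1
  have hMJ : JSys M := by
    refine ⟨h.char, ⟨h.one, hs1⟩, fun x ⟨hx, ex⟩ hx0 => ?_, fun x ⟨hx, ex⟩ y ⟨hy, ey⟩ => ?_⟩
    · obtain ⟨j1, j2⟩ := invFun_spec h (a := ⟨x, hx⟩) hx0
      refine ⟨_, ⟨(invFun h ⟨x, hx⟩).2, ?_⟩, j1, j2⟩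
      show s (invFun h ⟨x, hx⟩) = invFun h ⟨x, hx⟩
      rw [hinv, ex]
    · refine ⟨h.tri x hx y hy, ?_⟩
      by_cases hx0 : x = 0
      · subst hx0
        have e0 : (⟨0 * y * 0, h.tri 0 hx y hy⟩ : S) = 0 := Subtype.ext (by simp)
        rw [e0, map_zero' h hsL]
      · have e0 : (⟨x * y * x, h.tri x hx y hy⟩ : S) = U h ⟨x, hx⟩ ⟨y, hy⟩ :=
          Subtype.ext (U_val h (a := ⟨x, hx⟩) hx0 ⟨y, hy⟩).symm
        rw [e0]
        refine Subtype.ext ?_
        rw [hauto _ _ hx0, ex, ey, U_val h (a := ⟨x, hx⟩) hx0]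
  have hMlt : M < S := by
    refine lt_of_le_of_ne hMS fun e => hsne (Equiv.ext fun x => ?_)
    obtain ⟨hx, ex⟩ : (x : R) ∈ M := e.symm ▸ x.2
    exact ex
  have hMc := IH M hMlt hMJ
  have hMm : ∀ u ∈ M, ∀ v ∈ M, u * v ∈ M := fun u hu v hv => mul_mem_of_commute hMJ hu hv (hMc u hu v hv)
  -- the map `x ↦ x + s x`
  let Δ : S →+ M :=
    { toFun := fun x => ⟨(x + s x : S), (x + s x).2, by
        rw [additive h hsL, ← Equiv.Perm.mul_apply, hs2, Equiv.Perm.one_apply, add_comm]⟩
      map_zero' := Subtype.ext (by simp [map_zero' h hsL])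
      map_add' := fun x y => Subtype.ext (by
        simp only [AddSubgroup.coe_add, additive h hsL]; abel) }
  have hker : ∀ x : S, Δ x = 0 → (x : R) ∈ M := by
    intro x e
    have e' : (x : R) + s x = 0 := congrArg Subtype.val e
    exact ⟨x.2, Subtype.ext (h.eq_of_add e').symm⟩
  have hmul : ∀ (u : M) (x : S) (hu0 : (u : R) ≠ 0),
      ((Δ (U h ⟨u, hMS u.2⟩ x) : M) : R) = u * Δ x * u := by
    intro u x hu0
    show ((U h ⟨u, hMS u.2⟩ x : S) : R) + s (U h ⟨u, hMS u.2⟩ x) = u * ((x : R) + s x) * u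
    rw [hauto _ _ hu0, U_val h (a := ⟨(u : R), hMS u.2⟩) hu0]
    obtain ⟨hu', eu⟩ := u.2
    rw [show s ⟨(u : R), hMS u.2⟩ = ⟨(u : R), hMS u.2⟩ from eu, mul_add, add_mul]
  obtain ⟨x₁, hx₁M⟩ : ∃ x : S, (x : R) ∉ M := by
    by_contra hall; push Not at hall
    exact hMlt.not_ge fun x hx => hall ⟨x, hx⟩
  obtain ⟨m, hm0⟩ : ∃ m : M, Δ x₁ = m ∧ (m : R) ≠ 0 :=
    ⟨Δ x₁, rfl, fun e => hx₁M (hker x₁ (Subtype.ext e))⟩
  obtain ⟨r, hr, er, -⟩ := exists_sqrt hMJ m.2
  obtain ⟨r', hr', er'⟩ : ∃ r' ∈ M, r' * r = 1 := by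
    obtain ⟨b, hb, -, hb2⟩ := hMJ.inv r hr fun e => hm0.2 (by rw [← er, e, mul_zero])
    exact ⟨b, hb, hb2⟩
  have hr'0 : r' ≠ 0 := fun e => h1 (by rw [← er', e, zero_mul])
  set x := U h ⟨r', hMS hr'⟩ x₁ with hxdef
  have hΔx : ((Δ x : M) : R) = 1 := by
    rw [hxdef, hmul ⟨r', hr'⟩ x₁ hr'0, hm0.1, ← er]
    calc r' * (r * r) * r' = (r' * r) * (r * r') := by simp only [mul_assoc]
      _ = 1 := by rw [er', one_mul, (hMc r hr r' hr').eq, er']
  have hxM : (x : R) ∉ M := fun hxm => by
    obtain ⟨hx', ex⟩ := hxm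
    have : ((Δ x : M) : R) = 0 := by
      show (x : R) + s x = 0
      rw [show s x = x from ex, h.add_self]
    exact h1 (hΔx.symm.trans this)
  -- the derivation vanishes
  have hd : ∀ u ∈ M, u * (x : R) + (x : R) * u ∈ M := by
    intro u hu
    by_cases hu0 : u = 0
    · subst hu0; simp
    by_cases hu1 : u + 1 = 0
    · rw [show u = 1 from h.eq_of_add hu1]; simp [h.add_self]
    have key : Δ (U h ⟨u + 1, hMS (M.add_mem hu hMJ.one)⟩ x) + Δ (U h ⟨u, hMS hu⟩ x) + Δ x = 0 := by
      refine Subtype.ext ?_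
      rw [AddSubgroup.coe_add, AddSubgroup.coe_add, hmul ⟨u + 1, M.add_mem hu hMJ.one⟩ x hu1,
        hmul ⟨u, hu⟩ x hu0, hΔx]
      have : (u + 1) * 1 * (u + 1) + u * 1 * u + 1 = (u * u + 1) + (u * u + 1) + (u + u) := by noncomm_ring
      rw [this, h.add_self, h.add_self, add_zero]; rfl
    rw [← map_add, ← map_add] at key
    have := hker _ key
    rw [AddSubgroup.coe_add, AddSubgroup.coe_add, U_val h (a := ⟨u + 1, _⟩) hu1,
      U_val h (a := ⟨u, _⟩) hu0] at this
    have e : (u + 1) * (x : R) * (u + 1) + u * x * u + x =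
        (u * x + x * u) + (u * x * u + u * x * u) + ((x : R) + x) := by noncomm_ring
    rwa [e, h.add_self, h.add_self, add_zero, add_zero] at this
  have hxc : ∀ u ∈ M, Commute (x : R) u := by
    intro u hu
    obtain ⟨v, hv, ev, -⟩ := exists_sqrt hMJ hu
    have c := hd v hv
    have : u * (x : R) + x * u = v * (v * x + x * v) + (v * x + x * v) * v := by
      rw [← ev, mul_add, add_mul]
      have e : v * (v * (x : R)) + v * (x * v) + (v * x * v + x * v * v) =
          v * v * x + x * (v * v) + (v * x * v + v * x * v) := by noncomm_ring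
      rw [e, h.add_self, add_zero]
    rw [(hMc v hv _ c).eq, h.add_self] at this
    exact (h.eq_of_add this).symm
  refine hnc (commutative_of_pair h hMS hMm (fun u hu hu0 => ?_) hMc x.2 hxM hxc ?_)
  · obtain ⟨b, hb, -, hb2⟩ := hMJ.inv u hu hu0; exact ⟨b, hb, hb2⟩
  · have e1 : Nat.card S = Nat.card Δ.ker * Nat.card Δ.range := by
      rw [← AddSubgroup.card_mul_index Δ.ker, AddSubgroup.index_ker]
    rw [e1]
    refine Nat.mul_le_mul ?_ (Nat.card_le_card_of_injective _ Subtype.val_injective)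
    refine Nat.card_le_card_of_injective (fun y : Δ.ker => (⟨(y : S), hker y y.2⟩ : M)) fun y z e => ?_
    exact Subtype.ext (Subtype.ext (congrArg (fun w : M => (w : R)) e))

/-- A prime order element moves an odd prime multiple of points. -/
theorem modEq_fixed {α : Type*} [Finite α] {σ : Equiv.Perm α} {r : ℕ} (hr : r.Prime) (hσ : σ ^ r = 1) :
    Nat.card {x // σ x = x} ≡ Nat.card α [MOD r] := by
  classical
  have : Fintype α := Fintype.ofFinite α
  haveI : Fact r.Prime := ⟨hr⟩
  have h' := Equiv.Perm.card_compl_support_modEq (p := r) (n := 1) (σ := σ) (by rwa [pow_one])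
  rw [Nat.card_eq_fintype_card, Nat.card_eq_fintype_card, Fintype.card_subtype]
  convert h' using 2
  ext x; simp

/-- `2 ^ c ≢ 2 ^ n` modulo a primitive prime divisor. -/
theorem no_pow_modEq {n c r : ℕ} (hr : r.Prime) (hrn : r ∣ 2 ^ n - 1)
    (hprim : ∀ k : ℕ, 0 < k → k < n → ¬ r ∣ 2 ^ k - 1) (hn : 0 < n) (hc : 0 < c) (hcn : c < n)
    (e : 2 ^ c ≡ 2 ^ n [MOD r]) : False := by
  have h2 : ¬ r ∣ 2 := fun h => by
    have h1 : r = 2 := (Nat.prime_dvd_prime_iff_eq hr Nat.prime_two).1 h
    subst h1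
    have := Nat.one_le_two_pow (n := n)
    have e2 : 2 ∣ 2 ^ n := dvd_pow_self 2 hn.ne'
    omega
  have h3 := (Nat.modEq_iff_dvd' (Nat.pow_le_pow_right (by norm_num) hcn.le)).1 e
  have h4 : 2 ^ n - 2 ^ c = 2 ^ c * (2 ^ (n - c) - 1) := by
    rw [Nat.mul_sub, mul_one, ← pow_add, Nat.add_sub_cancel' hcn.le]
  rw [h4] at h3
  rcases hr.dvd_mul.1 h3 with h5 | h5
  · exact h2 (hr.dvd_of_dvd_pow h5)
  · exact hprim (n - c) (by omega) (by omega) h5

include h in
theorem JSys.gen_sys {a : R} (ha : a ∈ S) : JSys (gen a) := by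
  refine ⟨h.char, by simpa using pow_mem_gen a 0, fun x hx hx0 => ?_,
    fun x hx y hy => mul_mem_gen (mul_mem_gen hx hy) hx⟩
  let f : gen a → gen a := fun y => ⟨x * y, mul_mem_gen hx y.2⟩
  have hinj : Function.Injective f := fun y z e => by
    have e' : x * (y : R) = x * z := congrArg Subtype.val e
    refine Subtype.ext (sub_eq_zero.1 (h.eq_zero_of_mul (gen_le h ha hx) hx0 ?_))
    rw [mul_sub, e', sub_self]
  obtain ⟨y, hy⟩ := Finite.injective_iff_surjective.1 hinj ⟨1, by simpa using pow_mem_gen a 0⟩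
  have e : x * (y : R) = 1 := congrArg Subtype.val hy
  exact ⟨y, y.2, e, by rw [(gen_comm y.2 hx).eq, e]⟩

/-- `gen a` as a subring. -/
def genRing (a : R) : Subring R :=
  { gen a with
    one_mem' := by simpa using pow_mem_gen a 0
    mul_mem' := fun hx hy => mul_mem_gen hx hy }

include h in
theorem pow_card_gen (h1 : (1 : R) ≠ 0) {a : R} (ha : a ∈ S) (ha0 : a ≠ 0) :
    a ^ (Nat.card (gen a) - 1) = 1 := by
  classical
  have : Fintype (genRing a) := Fintype.ofFinite _
  haveI : Nontrivial (genRing a) := ⟨⟨0, 1, fun e => h1 (congrArg Subtype.val e).symm⟩⟩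
  haveI : NoZeroDivisors (genRing a) := ⟨fun {x y} e => by
    by_cases hx : (x : R) = 0
    · exact Or.inl (Subtype.ext hx)
    · exact Or.inr (Subtype.ext (h.eq_zero_of_mul (gen_le h ha x.2) hx (congrArg Subtype.val e)))⟩
  haveI : IsDomain (genRing a) := NoZeroDivisors.to_isDomain _
  letI : DivisionRing (genRing a) := Fintype.divisionRingOfIsDomain _
  have h0 := FiniteField.pow_card_sub_one_eq_one (⟨a, self_mem_gen a⟩ : genRing a) (fun e => ha0 (congrArg Subtype.val e))
  rw [← Nat.card_eq_fintype_card] at h0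
  exact congrArg Subtype.val h0

include h in
theorem U_pow_apply {a : S} (ha : (a : R) ≠ 0) (k : ℕ) (x : S) :
    (((U h a ^ k) x : S) : R) = (a : R) ^ k * x * (a : R) ^ k := by
  induction k with
  | zero => simp
  | succ k ih =>
    rw [pow_succ', Equiv.Perm.mul_apply, U_val h ha, ih]
    conv_rhs => arg 1; arg 1; rw [pow_succ']
    conv_rhs => arg 2; rw [pow_succ]
    simp only [mul_assoc]

include h in
theorem prime_dvd_gen (h1 : (1 : R) ≠ 0) {a : R} (ha : a ∈ S) {r : ℕ} (hr : r.Prime) (har : a ^ r = 1) (ha1 : a ≠ 1) :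
    r ∣ Nat.card (gen a) - 1 := by
  have ha0 : a ≠ 0 := fun e => h1 (by rw [← har, e, zero_pow hr.ne_zero])
  have ho : orderOf a = r := by
    rcases hr.eq_one_or_self_of_dvd _ (orderOf_dvd_of_pow_eq_one har) with e | e
    · exact absurd (orderOf_eq_one_iff.1 e) ha1
    · exact e
  rw [← ho]
  exact orderOf_dvd_of_pow_eq_one (pow_card_gen h h1 ha ha0)

include h in
/-- A prime order element `a` of `S` acts fixed-point-freely, so its order divides `|S| - 1`. -/
theorem prime_modEq_card (h1 : (1 : R) ≠ 0) {a : R} (ha : a ∈ S) {r : ℕ} (hr : r.Prime) (hr2 : r ≠ 2)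
    (har : a ^ r = 1) (ha1 : a ≠ 1) : 1 ≡ Nat.card S [MOD r] := by
  have ha0 : ((⟨a, ha⟩ : S) : R) ≠ 0 := fun e => h1 (by
    simp only at e; rw [← har, e, zero_pow hr.ne_zero])
  have hU : U h ⟨a, ha⟩ ^ r = 1 := Equiv.ext fun x => Subtype.ext (by
    rw [U_pow_apply h ha0]; simp [har])
  have key : ∀ x : S, U h ⟨a, ha⟩ x = x → x = 0 := by
    intro x hx
    by_contra hx0
    have hx0' : (x : R) ≠ 0 := fun e => hx0 (Subtype.ext e)
    have e : a * (x : R) * a = x := by
      have := congrArg Subtype.val hx; rwa [U_val h ha0] at this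
    have e2 : Commute a ((x : R) * x) := by
      calc a * ((x : R) * x) = (a * x) * (a * x * a) := by rw [e, mul_assoc]
        _ = (a * x * a) * (x * a) := by simp only [mul_assoc]
        _ = ((x : R) * x) * a := by rw [e, mul_assoc]
    have e3 : a * (x : R) = x * a := commute_of_commute_sq h x.2 e2
    have e4 : a * a = 1 := by
      obtain ⟨b, -, hb1, -⟩ := h.inv x x.2 hx0'
      rw [e3, mul_assoc] at e
      calc a * a = (a * a) * (x * b) := by rw [hb1, mul_one]
        _ = a * (a * x) * b := by simp only [mul_assoc]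
        _ = a * (x * a) * b := by rw [e3]
        _ = (x * (a * a)) * b := by rw [← mul_assoc a, e3, mul_assoc (x : R)]
        _ = 1 := by rw [e, hb1]
    exact ha1 (sq_inj h ha h.one (by rw [e4, one_mul]))
  have := modEq_fixed hr hU
  have hc : Nat.card {x // U h ⟨a, ha⟩ x = x} = 1 := by
    rw [Nat.card_eq_one_iff_unique]
    exact ⟨⟨fun x y => Subtype.ext ((key _ x.2).trans (key _ y.2).symm)⟩, ⟨⟨0, map_zero' h (U_mem h _)⟩⟩⟩
  rwa [hc] at this

include h in
theorem mem_card_pow {a : R} (ha : a ∈ S) : ∃ m, Nat.card (gen a) = 2 ^ m := nat_card_eq_pow (h.gen_sys ha)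

include h in
theorem not_six (h1 : (1 : R) ≠ 0) (hS : Nat.card S = 2 ^ 6) (hnc : ¬ ∀ a ∈ S, ∀ b ∈ S, Commute a b) : False := by
  have hfull : ∀ a ∈ S, Nat.card (gen a) = 2 ^ 6 → False := by
    intro a ha e
    refine hnc ?_
    have : gen a = S := by
      refine le_antisymm (gen_le h ha) ?_
      intro x hx
      have hb := (AddSubgroup.inclusion_injective (gen_le h ha)).bijective_of_nat_card_le (by rw [e, hS])
      obtain ⟨y, hy⟩ := hb.2 ⟨x, hx⟩
      rw [← show (y : R) = x from congrArg Subtype.val hy]; exact y.2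
    rw [← this]
    exact fun u hu v hv => gen_comm hu hv
  -- elements satisfy `a ^ 3 = 1` or `a ^ 7 = 1`
  have h37 : ∀ a ∈ S, a ≠ 0 → a ^ 3 = 1 ∨ a ^ 7 = 1 := by
    intro a ha ha0
    obtain ⟨m, hm⟩ := mem_card_pow h ha
    have hp := pow_card_gen h h1 ha ha0
    have hle : Nat.card (gen a) ≤ Nat.card S :=
      Nat.card_le_card_of_injective _ (AddSubgroup.inclusion_injective (gen_le h ha))
    rw [hS, hm] at hle
    have hm6 : m ≤ 6 := (Nat.pow_le_pow_iff_right (by norm_num)).1 hle
    have hmod : ∀ (r : ℕ) (b : R), r.Prime → r ≠ 2 → b ∈ S → b ^ r = 1 → b ≠ 1 → ¬ r = 5 ∧ ¬ r = 31 := by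
      intro r b hr hr2 hb hbr hb1
      have := prime_modEq_card h h1 hb hr hr2 hbr hb1
      rw [hS, Nat.modEq_iff_dvd' (by norm_num)] at this
      constructor <;> (rintro rfl; norm_num at this)
    rw [hm] at hp
    interval_cases m
    · left; have h0 : a = 1 := by
        have := Nat.card_eq_one_iff_unique.1 (by simpa using hm : Nat.card (gen a) = 1)
        exact absurd (congrArg Subtype.val (this.1.elim ⟨a, self_mem_gen a⟩ 0)) ha0
      simp [h0]
    · norm_num at hp; left; simp [hp]
    · norm_num at hp; exact Or.inl hp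
    · norm_num at hp; exact Or.inr hp
    · norm_num at hp; left
      by_contra h3
      exact (hmod 5 (a ^ 3) (by norm_num) (by norm_num) (h.pow_mem ha 3)
        (by rw [← pow_mul]; exact hp) h3).1 rfl
    · norm_num at hp; left
      by_contra h3
      have ha1 : a ≠ 1 := fun e => h3 (by simp [e])
      exact (hmod 31 a (by norm_num) (by norm_num) ha hp ha1).2 rfl
    · exact absurd hm (fun e => hfull a ha e)
  -- elements of order 3 are central
  have hcent : ∀ a ∈ S, a ^ 3 = 1 → a ≠ 1 → ∀ b ∈ S, Commute a b := by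
    intro a ha h3 ha1 b hb
    have ha0 : a ≠ 0 := fun e => h1 (by rw [← h3, e, zero_pow (by norm_num)])
    have hq : a * a = a + 1 := by
      have e : (a + 1) * (a * a + a + 1) = a ^ 3 + 1 + ((a * a + a) + (a * a + a)) := by noncomm_ring
      rw [h3, h.char, h.add_self, add_zero] at e
      have := h.eq_zero_of_mul (S.add_mem ha h.one) (fun e0 => ha1 (h.eq_of_add e0)) e
      rw [add_assoc] at this
      exact h.eq_of_add this
    set c := a * b + b * a with hc
    have hcS : c ∈ S := h.sym_mem ha hb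
    have e1 : a * c + c * a = c := by
      have : a * c + c * a = a * a * b + b * (a * a) + (a * b * a + a * b * a) := by rw [hc]; noncomm_ring
      rw [this, h.add_self, add_zero, hq, add_mul, mul_add, one_mul, mul_one]
      have e' : a * b + b + (b * a + b) = (a * b + b * a) + (b + b) := by abel
      rw [e', h.add_self, add_zero]
    have e2 : a * c = c * a + c := by
      have h' : a * c + c * a + c * a = c + c * a := by rw [e1]
      rwa [add_assoc, h.add_self, add_zero, add_comm c] at h'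
    have e3 : Commute a (c * c) := by
      calc a * (c * c) = (c * a + c) * c := by rw [← mul_assoc, e2]
        _ = c * (a * c) + c * c := by rw [add_mul, mul_assoc]
        _ = c * c * a + (c * c + c * c) := by rw [e2, mul_add, mul_assoc, add_assoc]
        _ = c * c * a := by rw [h.add_self, add_zero]
    have e4 : a * c = c * a := commute_of_commute_sq h hcS e3
    have : c = 0 := by rw [← e1, e4, h.add_self]
    exact h.eq_of_add this
  by_cases hex : ∃ a ∈ S, a ^ 3 = 1 ∧ a ≠ 1
  · obtain ⟨a, ha, h3, ha1⟩ := hex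
    apply hnc
    intro x hx y hy
    by_cases hx0 : x = 0
    · subst hx0; exact Commute.zero_left y
    rcases h37 x hx hx0 with hx3 | hx7
    · by_cases hx1 : x = 1
      · subst hx1; exact Commute.one_left y
      · exact hcent x hx hx3 hx1 y hy
    · by_cases hx1 : x = 1
      · subst hx1; exact Commute.one_left y
      exfalso
      have hax : Commute a x := hcent a ha h3 ha1 x hx
      have hm := mul_mem_of_commute h ha hx hax
      have ha0 : a ≠ 0 := fun e => h1 (by rw [← h3, e, zero_pow (by norm_num)])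
      rcases h37 _ hm (fun e => hx0 (h.eq_zero_of_mul ha ha0 e)) with e | e <;> rw [hax.mul_pow] at e
      · rw [h3, one_mul] at e
        exact hx1 (by have := hx7; rwa [show x ^ 7 = (x ^ 3) ^ 2 * x by rw [← pow_mul, ← pow_succ], e, one_pow, one_mul] at this)
      · rw [hx7, mul_one] at e
        exact ha1 (by rwa [show a ^ 7 = (a ^ 3) ^ 2 * a by rw [← pow_mul, ← pow_succ], h3, one_pow, one_mul] at e)
  · push Not at hex
    let σ : Equiv.Perm S := Equiv.ofBijective (fun x : S => (⟨(x : R) * x, h.sq_mem x.2⟩ : S))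
      (Finite.injective_iff_bijective.1 fun x y e => Subtype.ext (sq_inj h x.2 y.2 (congrArg Subtype.val e)))
    have hσv : ∀ x : S, ((σ x : S) : R) = (x : R) * x := fun x => rfl
    have h7 : ∀ x : S, (x : R) ≠ 0 → (x : R) ^ 7 = 1 := fun x hx => by
      rcases h37 x x.2 hx with e | e
      · rw [hex x x.2 e, one_pow]
      · exact e
    have hσ : σ ^ 3 = 1 := Equiv.ext fun x => Subtype.ext (by
      rw [pow_succ, pow_two]
      simp only [Equiv.Perm.mul_apply, Equiv.Perm.one_apply, hσv]
      by_cases hx : (x : R) = 0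
      · simp [hx]
      · rw [show (x : R) * x * (x * x) * (x * x * (x * x)) = (x : R) ^ 7 * x by noncomm_ring, h7 x hx, one_mul])
    have := modEq_fixed (α := S) Nat.prime_three hσ
    have hc : Nat.card {x // σ x = x} = 2 := by
      rw [Nat.card_eq_two_iff]
      refine ⟨⟨0, Subtype.ext (by rw [hσv]; simp)⟩, ⟨one' h, Subtype.ext (by rw [hσv]; simp [one'])⟩,
        fun e => h1 (congrArg (fun z => ((z.1 : S) : R)) e).symm, ?_⟩
      rw [Set.eq_univ_iff_forall]
      intro ⟨x, hx⟩
      have e : (x : R) * x = x := congrArg Subtype.val hx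
      by_cases hx0 : (x : R) = 0
      · left; exact Subtype.ext (Subtype.ext hx0)
      · right
        refine Set.mem_singleton_iff.2 (Subtype.ext (Subtype.ext ?_))
        have e2 : (x : R) * (x - 1) = 0 := by rw [mul_sub, e, mul_one, sub_self]
        exact sub_eq_zero.1 (h.eq_zero_of_mul x.2 hx0 e2)
    rw [hc, hS] at this
    revert this; decide

include h in
theorem commute_main (h1 : (1 : R) ≠ 0)
    (IH : ∀ M : AddSubgroup R, M < S → JSys M → ∀ a ∈ M, ∀ b ∈ M, Commute a b) :
    ∀ a ∈ S, ∀ b ∈ S, Commute a b := by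
  by_contra hnc
  obtain ⟨n, hn⟩ := nat_card_eq_pow h
  have hn2 : 2 ≤ n := by
    by_contra hlt
    apply hnc
    have hcard : Nat.card S ≤ 2 := hn ▸ (Nat.pow_le_pow_right (by norm_num) (by omega : n ≤ 1))
    let f : Bool → S := fun b => cond b (one' h) 0
    have hf : Function.Injective f := by
      have hne : one' h ≠ (0 : S) := fun e => h1 (congrArg Subtype.val e)
      intro b c; cases b <;> cases c <;> simp [f, hne, Ne.symm hne]
    have hs := (hf.bijective_of_nat_card_le (by simpa using hcard)).2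
    intro a ha b hb
    obtain ⟨c, hc⟩ := hs ⟨a, ha⟩
    have hc' : ((f c : S) : R) = a := congrArg Subtype.val hc
    cases c <;> rw [← hc'] <;> simp [f, one']
  by_cases h6 : n = 6
  · exact not_six h h1 (by rw [hn, h6]) hnc
  obtain ⟨r, hr, hrn, hprim⟩ := LEZsig.zsigmondy 2 n (by norm_num) hn2 (by simp [h6])
    (by rintro ⟨rfl, m, hm⟩
        rcases m with _ | _ | m
        · simp at hm
        · simp at hm
        · have := Nat.one_le_two_pow (n := m); rw [pow_succ, pow_succ] at hm; omega)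
  have hodd := odd_L h h1 IH hnc
  haveI : Fact r.Prime := ⟨hr⟩
  -- `r` divides the order of `L`
  have hrL : r ∣ Nat.card (L h) := by
    have horb : MulAction.orbit (L h) (one' h) = {x : S | (x : R) ≠ 0} := by
      ext x
      constructor
      · rintro ⟨g, rfl⟩
        exact val_ne_zero h g.2 (by simpa [one'] using h1)
      · intro hx
        obtain ⟨a, ha, ea, -⟩ := exists_sqrt h x.2
        refine ⟨⟨U h ⟨a, ha⟩, U_mem h _⟩, Subtype.ext ?_⟩
        show ((U h ⟨a, ha⟩ (one' h) : S) : R) = x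
        rw [U_apply_one h (a := ⟨a, ha⟩) (fun e => hx (by simp only at e; rw [← ea, e, mul_zero]))]
        exact ea
    have hcard : (MulAction.orbit (L h) (one' h)).ncard = 2 ^ n - 1 := by
      rw [horb, show {x : S | (x : R) ≠ 0} = ({0} : Set S)ᶜ by ext x; simp, Set.ncard_compl, Set.ncard_singleton, hn]
    have hdvd : (MulAction.stabilizer (L h) (one' h)).index ∣ Nat.card (L h) := Subgroup.index_dvd_card _
    rw [MulAction.index_stabilizer, hcard] at hdvd
    exact hrn.trans hdvd
  -- a Sylow subgroup invariant under `θ`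
  let θL : MulAut (L h) :=
    { toFun := fun g => ⟨θ h g, θ_mem h g.2⟩
      invFun := fun g => ⟨θ h g, θ_mem h g.2⟩
      left_inv := fun g => Subtype.ext (θ_θ h g)
      right_inv := fun g => Subtype.ext (θ_θ h g)
      map_mul' := fun a b => Subtype.ext (map_mul _ _ _) }
  have hθL2 : θL ^ 2 = 1 := by
    refine MulEquiv.ext fun g => Subtype.ext ?_
    rw [sq]; exact θ_θ h g
  haveI : Fintype (Sylow r (L h)) := Fintype.ofFinite _
  obtain ⟨P, hP⟩ : ∃ P : Sylow r (L h), θL • P = P := by
    have hnd : ¬ 2 ∣ Fintype.card (Sylow r (L h)) := by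
      rw [← Nat.card_eq_fintype_card]
      intro h2
      have : Nat.card (Sylow r (L h)) ∣ Nat.card (L h) := (Classical.arbitrary (Sylow r (L h))).card_dvd_index.trans (Subgroup.index_dvd_card _)
      exact (Nat.not_even_iff_odd.2 hodd) (even_iff_two_dvd.2 (h2.trans this))
    haveI : Fact (Nat.Prime 2) := ⟨Nat.prime_two⟩
    exact Equiv.Perm.exists_fixed_point_of_prime (p := 2) (n := 1) hnd
      (σ := MulAction.toPermHom (MulAut (L h)) (Sylow r (L h)) θL)
      (by rw [pow_one, ← map_pow, hθL2, map_one])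
  have hθP : ∀ g : L h, g ∈ (P : Subgroup (L h)) → θL g ∈ (P : Subgroup (L h)) := by
    intro g hg
    have : θL g ∈ ((θL • P : Sylow r (L h)) : Subgroup (L h)) :=
      ⟨g, hg, rfl⟩
    rwa [hP] at this
  have hPne : Nontrivial (P : Subgroup (L h)) := by
    rw [← Finite.one_lt_card_iff_nontrivial]
    exact lt_of_lt_of_le hr.one_lt (Nat.le_of_dvd Nat.card_pos (P.dvd_card_of_dvd_card hrL))
  haveI := P.2.center_nontrivial
  obtain ⟨z₀, hz₀⟩ : ∃ z : Subgroup.center (P : Subgroup (L h)), orderOf z = r := by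
    apply exists_prime_orderOf_dvd_card' r
    obtain ⟨k, hk⟩ := (P.2.to_subgroup (Subgroup.center (P : Subgroup (L h)))).exists_card_eq
    rw [hk]
    refine dvd_pow_self r fun e => ?_
    rw [e, pow_zero] at hk
    exact absurd hk (Finite.one_lt_card_iff_nontrivial.2 inferInstance).ne'
  set z : L h := ((z₀ : (P : Subgroup (L h))) : L h) with hzdef
  have hzr : z ^ r = 1 := by
    have h0 : z₀ ^ r = 1 := orderOf_dvd_iff_pow_eq_one.1 hz₀.dvd
    rw [hzdef, ← SubmonoidClass.coe_pow, ← SubmonoidClass.coe_pow, h0]; rfl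
  have hz1 : z ≠ 1 := fun e => by
    have : z₀ = 1 := Subtype.ext (Subtype.ext e)
    rw [this, orderOf_one] at hz₀; exact hr.ne_one hz₀.symm
  have hzc : ∀ g ∈ (P : Subgroup (L h)), g * z = z * g := fun g hg =>
    congrArg Subtype.val (Subgroup.mem_center_iff.1 z₀.2 ⟨g, hg⟩)
  by_cases hzfix : (z : Equiv.Perm S) (one' h) = one' h
  · -- fixed points of `z`
    have hzr' : (z : Equiv.Perm S) ^ r = 1 := congrArg Subtype.val hzr
    let C : AddSubgroup S :=
      { carrier := {x | (z : Equiv.Perm S) x = x}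
        zero_mem' := map_zero' h z.2
        add_mem' := fun {x y} (hx : _ = _) (hy : _ = _) => show _ = _ by rw [additive h z.2, hx, hy]
        neg_mem' := fun {x} (hx : _ = _) => by
          have e : -x = x := Subtype.ext (h.neg_eq _)
          show (z : Equiv.Perm S) (-x) = -x
          rw [e]; exact hx }
    have hmod := modEq_fixed hr hzr'
    change Nat.card C ≡ Nat.card S [MOD r] at hmod
    obtain ⟨c, hc⟩ : ∃ c, Nat.card C = 2 ^ c := by
      have hdvd : Nat.card C ∣ 2 ^ n := hn ▸ AddSubgroup.card_addSubgroup_dvd_card C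
      obtain ⟨c, -, hc⟩ := (Nat.dvd_prime_pow Nat.prime_two).1 hdvd
      exact ⟨c, hc⟩
    have hc0 : 0 < c := by
      rcases Nat.eq_zero_or_pos c with rfl | hpos
      · rw [pow_zero, Nat.card_eq_one_iff_unique] at hc
        exact absurd (congrArg (fun w : C => ((w : S) : R)) (hc.1.elim ⟨one' h, hzfix⟩ 0)) h1
      · exact hpos
    have hcn : c < n := by
      by_contra hle
      apply hz1
      refine Subtype.ext (Equiv.ext fun x => ?_)
      have : C = ⊤ := AddSubgroup.eq_top_of_le_card _ (by rw [hc, hn]; exact Nat.pow_le_pow_right (by norm_num) (by omega))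
      exact (this.symm ▸ AddSubgroup.mem_top x : x ∈ C)
    rw [hc, hn] at hmod
    exact no_pow_modEq hr hrn hprim (by omega) hc0 hcn hmod
  · set z' : L h := z * (θL z)⁻¹ with hz'
    have hθz : θL z ∈ (P : Subgroup (L h)) := hθP z (z₀ : (P : Subgroup (L h))).2
    have hcomm : Commute z (θL z) := (hzc _ hθz).symm
    have hinv' : θL z' = z'⁻¹ := by
      rw [hz', map_mul, map_inv, show θL (θL z) = z from Subtype.ext (θ_θ h z), mul_inv_rev, inv_inv]
    have hz'r : z' ^ r = 1 := by
      rw [hz', hcomm.inv_right.mul_pow, inv_pow, ← map_pow, hzr, map_one, inv_one, mul_one]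
    have hz'1 : z' ≠ 1 := by
      intro e
      apply hzfix
      have e1 : θ h (z : Equiv.Perm S) = z :=
        congrArg Subtype.val (mul_inv_eq_one.1 e).symm
      set w := (z : Equiv.Perm S) (one' h) with hw
      have hw0 : (w : R) ≠ 0 := val_ne_zero h z.2 (by simpa [one'] using h1)
      have e2 : invFun h w = w := by
        have hι1 : ι h (one' h) = one' h := invFun_eq_of_mul h (by simpa [one'] using h1) (by simp [one'])
        have := congrArg (fun g : Equiv.Perm S => g (one' h)) e1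
        simp only [θ_apply, Equiv.Perm.mul_apply, hι1] at this
        exact this
      obtain ⟨hi, -⟩ := invFun_spec h hw0
      rw [e2] at hi
      exact Subtype.ext (sq_inj h w.2 h.one (by simp [hi, one']))
    set b := ((z' : L h) : Equiv.Perm S) (one' h) with hb
    have hb0 : (b : R) ≠ 0 := val_ne_zero h z'.2 (by simpa [one'] using h1)
    obtain ⟨a, ha, ea, -⟩ := exists_sqrt h b.2
    have ha0 : a ≠ 0 := fun e => hb0 (by rw [← ea, e, mul_zero])
    set A : Equiv.Perm S := U h ⟨a, ha⟩ with hA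
    set g : Equiv.Perm S := A⁻¹ * (z' : Equiv.Perm S) with hg
    have hgL : g ∈ L h := mul_mem (inv_mem (U_mem h _)) z'.2
    have hA1 : A (one' h) = b := Subtype.ext (by rw [hA, U_apply_one h (a := ⟨a, ha⟩) ha0]; exact ea)
    have hg1 : g (one' h) = one' h := by
      rw [hg, Equiv.Perm.mul_apply, ← hb, Equiv.Perm.coe_inv, ← hA1, Equiv.symm_apply_apply]
    have hθg := θ_eq_of_fix h h1 hgL hg1
    have hθz' : θ h (z' : Equiv.Perm S) = (z' : Equiv.Perm S)⁻¹ := congrArg Subtype.val hinv'
    have hzAg : (z' : Equiv.Perm S) = A * g := by rw [hg, mul_inv_cancel_left]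
    have e3 : A⁻¹ * g = g⁻¹ * A⁻¹ := by
      have := hθz'
      rw [hzAg, map_mul, hθg, hA, θ_U h (a := ⟨a, ha⟩) ha0, mul_inv_rev] at this
      exact this
    have e4 : g * A * g⁻¹ = A * g⁻¹ * g⁻¹ := by
      have e : g * A = A * g⁻¹ := by
        calc g * A = (A * A⁻¹) * g * A := by group
          _ = A * (A⁻¹ * g) * A := by group
          _ = A * g⁻¹ := by rw [e3]; group
      rw [e]
    have e5 : U h (g ⟨a, ha⟩) = g * A * g⁻¹ := by rw [U_apply h hgL _ ha0, hθg]
    have hga : g ⟨a, ha⟩ = ⟨a, ha⟩ := by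
      have hga0 : ((g ⟨a, ha⟩ : S) : R) ≠ 0 := val_ne_zero h hgL ha0
      have hg1' : g⁻¹ (one' h) = one' h := by
        rw [Equiv.Perm.coe_inv, Equiv.symm_apply_eq]; exact hg1.symm
      have h' := congrArg (fun k : Equiv.Perm S => ((k (one' h) : S) : R)) (e5.trans e4)
      simp only [Equiv.Perm.mul_apply, hg1', hA1, U_apply_one h hga0, ← ea] at h'
      exact Subtype.ext (sq_inj h (g ⟨a, ha⟩).2 ha h')
    have hg2 : g * g = 1 := by
      have e6 := e5.trans e4
      rw [hga, ← hA, mul_assoc, left_eq_mul, ← mul_inv_rev, inv_eq_one] at e6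
      exact e6
    have hgone : g = 1 := by
      have hd : orderOf (⟨g, hgL⟩ : L h) ∣ 2 := orderOf_dvd_of_pow_eq_one (Subtype.ext (by simpa [sq] using hg2))
      have hd2 : orderOf (⟨g, hgL⟩ : L h) ∣ Nat.card (L h) := orderOf_dvd_natCard _
      rcases (Nat.dvd_prime Nat.prime_two).1 hd with e | e
      · exact congrArg Subtype.val (orderOf_eq_one_iff.1 e)
      · rw [e] at hd2
        exact absurd (even_iff_two_dvd.2 hd2) (Nat.not_even_iff_odd.2 hodd)
    rw [hgone, mul_one] at hzAg
    have har : a ^ r = 1 := by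
      have h' := congrArg (fun k : Equiv.Perm S => ((k (one' h) : S) : R))
        (show A ^ r = 1 by rw [← hzAg]; exact congrArg Subtype.val hz'r)
      simp only [hA, U_pow_apply h (a := ⟨a, ha⟩) ha0, Equiv.Perm.one_apply] at h'
      simp only [one', mul_one] at h'
      exact sq_inj h (h.pow_mem ha r) h.one (by rw [h', one_mul])
    have ha1 : a ≠ 1 := fun e => hz'1 (Subtype.ext (by
      rw [hzAg, hA, show (⟨a, ha⟩ : S) = one' h from Subtype.ext e, U_one]; rfl))
    obtain ⟨m, hm⟩ := mem_card_pow h ha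
    have hdv := prime_dvd_gen h h1 ha hr har ha1
    rw [hm] at hdv
    have hle : Nat.card (gen a) ≤ Nat.card S :=
      Nat.card_le_card_of_injective _ (AddSubgroup.inclusion_injective (gen_le h ha))
    rw [hm, hn] at hle
    have hmn : m ≤ n := (Nat.pow_le_pow_iff_right (by norm_num)).1 hle
    rcases Nat.lt_or_ge m n with hlt | hge
    · rcases Nat.eq_zero_or_pos m with rfl | hm0
      · rw [pow_zero, Nat.card_eq_one_iff_unique] at hm
        exact ha0 (congrArg Subtype.val (hm.1.elim ⟨a, self_mem_gen a⟩ 0))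
      · exact hprim m hm0 hlt hdv
    · apply hnc
      intro u hu v hv
      have hb := (AddSubgroup.inclusion_injective (gen_le h ha)).bijective_of_nat_card_le
        (by rw [hm, hn]; exact Nat.pow_le_pow_right (by norm_num) hge)
      obtain ⟨u', hu'⟩ := hb.2 ⟨u, hu⟩
      obtain ⟨v', hv'⟩ := hb.2 ⟨v, hv⟩
      rw [← show (u' : R) = u from congrArg Subtype.val hu', ← show (v' : R) = v from congrArg Subtype.val hv']
      exact gen_comm u'.2 v'.2

end main

/-- A finite special Jordan division system of characteristic 2 is commutative. -/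
theorem JSys.commute [Finite R] {S : AddSubgroup R} (h : JSys S) {a b : R} (ha : a ∈ S) (hb : b ∈ S) :
    Commute a b := by
  suffices H : ∀ N : ℕ, ∀ T : AddSubgroup R, Nat.card T = N → JSys T → ∀ a ∈ T, ∀ b ∈ T, Commute a b from
    H _ S rfl h a ha b hb
  intro N
  induction N using Nat.strong_induction_on with
  | _ N ih =>
    intro T hT hTJ
    by_cases h1 : (1 : R) = 0
    · intro a _ b _; exact eq_of_zero_eq_one h1.symm _ _
    refine commute_main hTJ h1 fun M hM hMJ => ih _ ?_ M rfl hMJ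
    rw [← hT]
    have := (SetLike.coe_ssubset_coe.2 hM)
    exact Set.ncard_lt_ncard this (Set.toFinite _)

end Cfsg.Agent.JordanField
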